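import Cfsg.Agent.Lib.Core.SolvableStruct
import Cfsg.Agent.Lib.Core.Hall
import Cfsg.Agent.Lib.Transfer.PResidual
import Cfsg.Agent.Lib.TwoGroups.KleinSylow
import Cfsg.Agent.Lib.Signalizer.Involutions

/-!
# Cyclic Sylow subgroup and abelian `p'`-subgroups: local lemmas and the solvable case

If a Sylow `p`-subgroup is cyclic and all `p'`-subgroups are abelian then a solvable group either
has a normal `p`-complement or a normal Sylow `p`-subgroup.
-/

set_option autoImplicit false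
set_option linter.all false

namespace CfsgLib.Orders.CyclicAbelian

open Cfsg Subgroup

universe u

variable {G : Type u} [Group G] [Finite G] {p : ℕ} [hp : Fact p.Prime]

/-- The hypothesis: cyclic Sylow `p`-subgroups and abelian `p'`-subgroups. -/
structure Hyp (p : ℕ) (G : Type*) [Group G] : Prop where
  cyclic : ∀ P : Sylow p G, IsCyclic P
  abel : ∀ H : Subgroup G, ¬ p ∣ Nat.card H → IsMulCommutative H

omit [Finite G] hp in
theorem Hyp.comm (hG : Hyp p G) {H : Subgroup G} (hH : ¬ p ∣ Nat.card H) {a b : G} (ha : a ∈ H)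
    (hb : b ∈ H) : a * b = b * a :=
  congrArg Subtype.val ((hG.abel H hH).is_comm.comm ⟨a, ha⟩ ⟨b, hb⟩)

theorem Hyp.subgroup (hG : Hyp p G) (X : Subgroup G) : Hyp p X := by
  refine ⟨fun S => ?_, fun H hH => ?_⟩
  · obtain ⟨P, hP⟩ := (S.2.map X.subtype).exists_le_sylow
    have := hG.cyclic P
    exact isCyclic_of_injective
      ((Subgroup.inclusion hP).comp (Subgroup.equivMapOfInjective _ _ X.subtype_injective).toMonoidHom)
      ((Subgroup.inclusion_injective hP).comp (MulEquiv.injective _))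
  · have h : ¬ p ∣ Nat.card (H.map X.subtype) := by
      rwa [Subgroup.card_map_of_injective X.subtype_injective]
    exact ⟨⟨fun a b => Subtype.ext (Subtype.ext
      (hG.comm h (mem_map_of_mem X.subtype a.2) (mem_map_of_mem X.subtype b.2)))⟩⟩

theorem eq_one_of_pGroup_coprime {Q : Subgroup G} (hQ : IsPGroup p Q) {x : G} (hx : x ∈ Q)
    (hc : (orderOf x).Coprime p) : x = 1 := by
  obtain ⟨k, hk⟩ := (IsPGroup.iff_orderOf.1 hQ) ⟨x, hx⟩
  rw [Subgroup.orderOf_mk] at hk
  rw [← orderOf_eq_one_iff]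
  exact Nat.eq_one_of_dvd_coprimes (hc.pow_right k) dvd_rfl (hk ▸ dvd_rfl)

theorem coprime_of_mem {H : Subgroup G} (hH : ¬ p ∣ Nat.card H) {x : G} (hx : x ∈ H) :
    (orderOf x).Coprime p :=
  ((hp.out.coprime_iff_not_dvd.2 hH).symm).coprime_dvd_left (Subgroup.orderOf_dvd_natCard _ hx)

theorem not_dvd_card_zpowers {x : G} (hx : (orderOf x).Coprime p) :
    ¬ p ∣ Nat.card (zpowers x) := by
  rw [Nat.card_zpowers]
  exact hp.out.coprime_iff_not_dvd.1 hx.symm

/-- The decomposition into a `p`-part and a `p'`-part. -/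
theorem exists_parts (x : G) :
    ∃ a ∈ zpowers x, ∃ b ∈ zpowers x, x = a * b ∧ IsPGroup p (zpowers a) ∧
      (orderOf b).Coprime p := by
  obtain ⟨k, m, hm, hn⟩ := Nat.exists_eq_pow_mul_and_not_dvd (orderOf_pos x).ne' p hp.out.ne_one
  have hc : IsCoprime ((p ^ k : ℕ) : ℤ) (m : ℤ) :=
    (Int.isCoprime_iff_nat_coprime.2 (by
      simpa using (hp.out.coprime_iff_not_dvd.2 hm).pow_left k))
  obtain ⟨u, v, huv⟩ := hc
  have hx1 : ∀ z : ℤ, x ^ (z * ((p ^ k : ℕ) : ℤ) * (m : ℤ)) = 1 := fun z => by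
    rw [mul_assoc, ← Nat.cast_mul, ← hn, mul_comm, zpow_mul, zpow_natCast, pow_orderOf_eq_one,
      one_zpow]
  refine ⟨x ^ (v * (m : ℤ)), zpow_mem (mem_zpowers x) _, x ^ (u * ((p ^ k : ℕ) : ℤ)),
    zpow_mem (mem_zpowers x) _, ?_, ?_, ?_⟩
  · rw [← zpow_add, add_comm, huv, zpow_one]
  · obtain ⟨l, -, hl⟩ := (Nat.dvd_prime_pow hp.out).1
      (show orderOf (x ^ (v * (m : ℤ))) ∣ p ^ k from orderOf_dvd_of_pow_eq_one (by
        rw [← zpow_natCast, ← zpow_mul,
          show v * (m : ℤ) * ((p ^ k : ℕ) : ℤ) = v * ((p ^ k : ℕ) : ℤ) * (m : ℤ) by ring, hx1]))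
    exact IsPGroup.of_card (n := l) (by rw [Nat.card_zpowers, hl])
  · refine (hp.out.coprime_iff_not_dvd.2 hm).symm.coprime_dvd_left (orderOf_dvd_of_pow_eq_one ?_)
    rw [← zpow_natCast, ← zpow_mul, hx1]

/-- Subgroups of a cyclic group are determined by their order. -/
theorem eq_of_card_eq {A B C : Subgroup G} [IsCyclic A] (hB : B ≤ A) (hC : C ≤ A)
    (h : Nat.card B = Nat.card C) : B = C := by
  classical
  haveI := Fintype.ofFinite A
  haveI := Fintype.ofFinite G
  have key : ∀ D : Subgroup G, D ≤ A → ∀ x : A, Nat.card D = Nat.card B →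
      ((x : G) ∈ D ↔ x ^ Nat.card B = 1) := by
    intro D hD
    set T : Finset A := Finset.univ.filter fun x : A => x ^ Nat.card B = 1 with hT
    set S : Finset A := Finset.univ.filter fun x : A => (x : G) ∈ D with hS
    intro x hDB
    have hle : S ⊆ T := by
      intro y hy
      rw [hS, Finset.mem_filter] at hy
      rw [hT, Finset.mem_filter]
      refine ⟨Finset.mem_univ _, Subtype.ext ?_⟩
      rw [SubgroupClass.coe_pow, OneMemClass.coe_one, ← hDB]
      exact congrArg Subtype.val (pow_card_eq_one' (x := (⟨y, hy.2⟩ : D)))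
    have hcard : T.card ≤ S.card := by
      refine le_trans (IsCyclic.card_pow_eq_one_le Nat.card_pos) ?_
      rw [← hDB, Nat.card_congr (Subgroup.subgroupOfEquivOfLe hD).toEquiv.symm,
        Nat.card_eq_fintype_card, Fintype.card_subtype]
      exact le_of_eq (congrArg Finset.card (Finset.ext fun y => by simp [hS, mem_subgroupOf]))
    have := Finset.eq_of_subset_of_card_le hle hcard
    constructor
    · intro hx
      exact (Finset.mem_filter.1 (hle (Finset.mem_filter.2 ⟨Finset.mem_univ _, hx⟩))).2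
    · intro hx
      have hxT : x ∈ T := Finset.mem_filter.2 ⟨Finset.mem_univ _, hx⟩
      rw [← this] at hxT
      exact (Finset.mem_filter.1 hxT).2
  ext g
  constructor
  · intro hg
    exact (key C hC ⟨g, hB hg⟩ h.symm).2 ((key B hB ⟨g, hB hg⟩ rfl).1 hg)
  · intro hg
    exact (key B hB ⟨g, hC hg⟩ rfl).2 ((key C hC ⟨g, hC hg⟩ h.symm).1 hg)

/-- An element of order prime to `p` normalizing a cyclic `p`-group and fixing a nontrivial
element of it centralizes it. -/
theorem commute_of_fix {A : Subgroup G} [IsCyclic A] (hA : IsPGroup p A) {h x : G}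
    (hh : h ∈ normalizer (A : Set G)) (hc : (orderOf h).Coprime p) (hx : x ∈ A) (hx1 : x ≠ 1)
    (hfix : Commute h x) {a : G} (ha : a ∈ A) : Commute h a := by
  obtain ⟨⟨g, hg⟩, hgen⟩ := IsCyclic.exists_generator (α := A)
  obtain ⟨n, hn⟩ := (IsPGroup.iff_orderOf.1 hA) ⟨g, hg⟩
  rw [Subgroup.orderOf_mk] at hn
  have hz : ∀ y ∈ A, ∃ m : ℤ, g ^ m = y := fun y hy => by
    obtain ⟨m, hm⟩ := mem_zpowers_iff.1 (hgen ⟨y, hy⟩)
    exact ⟨m, by simpa using congrArg Subtype.val hm⟩
  obtain ⟨m, hm⟩ := hz _ ((mem_normalizer_iff.1 hh g).1 hg)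
  obtain ⟨i, hi⟩ := hz x hx
  have hdvd : (p : ℤ) ∣ m - 1 := by
    have h1 : g ^ (m * i) = g ^ i := by
      rw [zpow_mul, hm, conj_zpow, hi, hfix.eq, mul_inv_cancel_right]
    rw [zpow_eq_zpow_iff_modEq, Int.modEq_comm, Int.modEq_iff_dvd, hn] at h1
    by_contra hne
    have hcop : IsCoprime ((p : ℤ) ^ n) (m - 1) :=
      ((Nat.prime_iff_prime_int.1 hp.out).coprime_iff_not_dvd.2 hne).pow_left
    have h2 : ((p ^ n : ℕ) : ℤ) ∣ i := by
      push_cast at h1 ⊢
      exact hcop.dvd_of_dvd_mul_left (by rwa [sub_mul, one_mul])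
    obtain ⟨c, rfl⟩ := h2
    rw [zpow_mul, zpow_natCast, ← hn, pow_orderOf_eq_one, one_zpow] at hi
    exact hx1 hi.symm
  have hpow : ∀ k : ℕ, h ^ k * g * (h ^ k)⁻¹ = g ^ (m ^ k) := by
    intro k
    induction k with
    | zero => simp
    | succ k ih =>
      calc h ^ (k + 1) * g * (h ^ (k + 1))⁻¹ = h * (h ^ k * g * (h ^ k)⁻¹) * h⁻¹ := by
            rw [pow_succ']; group
        _ = g ^ (m ^ (k + 1)) := by rw [ih, ← conj_zpow, ← hm, ← zpow_mul, pow_succ']
  have hfixg : Commute (h ^ p ^ n) g := by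
    have h2 : g ^ (m ^ p ^ n) = g ^ (1 : ℤ) := by
      rw [zpow_eq_zpow_iff_modEq, Int.modEq_comm, Int.modEq_iff_dvd, hn]
      have h3 := dvd_sub_pow_of_dvd_sub (R := ℤ) (p := p) hdvd n
      push_cast
      rw [one_pow] at h3
      exact (pow_dvd_pow _ (Nat.le_succ n)).trans h3
    rw [← hpow, zpow_one, mul_inv_eq_iff_eq_mul] at h2
    exact h2
  obtain ⟨j, hj⟩ := mem_zpowers_iff.1
    ((mem_zpowers_pow_iff (g := h) (k := p ^ n)).2 (hc.symm.pow_left n))
  have hhg : Commute h g := hj ▸ hfixg.zpow_left j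
  obtain ⟨l, rfl⟩ := hz a ha
  exact hhg.zpow_right l

/-- An element of order prime to `p` acting nontrivially on a cyclic `p`-group has every element
as a commutator. -/
theorem exists_commutator {A : Subgroup G} [IsCyclic A] (hA : IsPGroup p A) {h a : G}
    (hh : h ∈ normalizer (A : Set G)) (hc : (orderOf h).Coprime p) (ha : a ∈ A)
    (hne : ¬ Commute h a) {π : G} (hπ : π ∈ A) : ∃ b ∈ A, b * h * b⁻¹ * h⁻¹ = π := by
  have hm : ∀ b : A, (b : G) * h * (b : G)⁻¹ * h⁻¹ ∈ A := fun b => by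
    rw [show (b : G) * h * (b : G)⁻¹ * h⁻¹ = b * (h * (b : G)⁻¹ * h⁻¹) by group]
    exact mul_mem b.2 ((mem_normalizer_iff.1 hh _).1 (inv_mem b.2))
  have hinj : Function.Injective
      (fun b : A => (⟨(b : G) * h * (b : G)⁻¹ * h⁻¹, hm b⟩ : A)) := by
    intro b c e
    have e' : (b : G) * h * (b : G)⁻¹ = c * h * (c : G)⁻¹ :=
      mul_right_cancel (congrArg Subtype.val e)
    have hfix : Commute h ((c : G)⁻¹ * b) := by
      show h * ((c : G)⁻¹ * b) = (c : G)⁻¹ * b * h
      calc h * ((c : G)⁻¹ * b) = (c : G)⁻¹ * ((c : G) * h * (c : G)⁻¹) * b := by group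
        _ = _ := by rw [← e']; group
    by_contra hbc
    refine hne (commute_of_fix hA hh hc (mul_mem (inv_mem c.2) b.2) ?_ hfix ha)
    intro e1
    exact hbc (Subtype.ext (inv_mul_eq_one.1 e1).symm)
  obtain ⟨b, hb⟩ := (Finite.injective_iff_surjective.1 hinj) ⟨π, hπ⟩
  exact ⟨b, b.2, congrArg Subtype.val hb⟩

/-- A complement of a Sylow subgroup in its normalizer. -/
structure IsCompl (P : Sylow p G) (H : Subgroup G) : Prop where
  le : H ≤ normalizer ((P : Subgroup G) : Set G)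
  prime_to : ¬ p ∣ Nat.card H
  decomp : ∀ g ∈ normalizer ((P : Subgroup G) : Set G), ∃ π ∈ (P : Subgroup G), ∃ h ∈ H, g = π * h

theorem exists_isCompl (P : Sylow p G) : ∃ H : Subgroup G, IsCompl P H := by
  set N := normalizer ((P : Subgroup G) : Set G) with hN
  set P' : Sylow p N := P.subtype le_normalizer with hP'
  have hPsub : (P' : Subgroup N) = (P : Subgroup G).subgroupOf N := rfl
  haveI hn : ((P : Subgroup G).subgroupOf N).Normal := normal_in_normalizer
  obtain ⟨H, hH⟩ := Subgroup.exists_right_complement'_of_coprime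
    (N := (P : Subgroup G).subgroupOf N) (hPsub ▸ P'.card_coprime_index)
  refine ⟨H.map N.subtype, map_subtype_le H, ?_, fun g hg => ?_⟩
  · rw [Subgroup.card_map_of_injective N.subtype_injective, ← hH.symm.index_eq_card, ← hPsub]
    exact P'.not_dvd_index
  · obtain ⟨⟨⟨a, ha⟩, ⟨b, hb⟩⟩, hab⟩ := hH.surjective ⟨g, hg⟩
    refine ⟨(a : G), mem_subgroupOf.1 ha, (b : G), mem_map_of_mem N.subtype hb, ?_⟩
    exact (congrArg Subtype.val hab).symm

theorem IsCompl.conj {P : Sylow p G} {H : Subgroup G} (hH : IsCompl P H) {b : G}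
    (hb : b ∈ (P : Subgroup G)) : IsCompl P (H.map (MulAut.conj b).toMonoidHom) := by
  have hbN : b ∈ normalizer ((P : Subgroup G) : Set G) := le_normalizer hb
  refine ⟨?_, ?_, fun g hg => ?_⟩
  · rintro _ ⟨h, hh, rfl⟩
    exact mul_mem (mul_mem hbN (hH.le hh)) (inv_mem hbN)
  · rw [Subgroup.card_map_of_injective (MulAut.conj b).injective]
    exact hH.prime_to
  · obtain ⟨π, hπ, h, hh, e⟩ := hH.decomp _ (mul_mem (mul_mem (inv_mem hbN) hg) hbN)
    refine ⟨b * π * b⁻¹, mul_mem (mul_mem hb hπ) (inv_mem hb), b * h * b⁻¹,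
      ⟨h, hh, rfl⟩, ?_⟩
    calc g = b * (b⁻¹ * g * b) * b⁻¹ := by group
      _ = _ := by rw [e]; group

theorem Hyp.commP (hG : Hyp p G) (P : Sylow p G) {a b : G} (ha : a ∈ (P : Subgroup G))
    (hb : b ∈ (P : Subgroup G)) : Commute a b := by
  haveI := hG.cyclic P
  exact congrArg Subtype.val (mul_comm' (⟨a, ha⟩ : (P : Subgroup G)) ⟨b, hb⟩)

/-- An element of order prime to `p` centralizing `P` lies in every complement. -/
theorem IsCompl.mem_of_centralizes (hG : Hyp p G) {P : Sylow p G} {H : Subgroup G}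
    (hH : IsCompl P H) {g : G} (hc : (orderOf g).Coprime p)
    (hg : ∀ a ∈ (P : Subgroup G), Commute g a) : g ∈ H := by
  have hgN : g ∈ normalizer ((P : Subgroup G) : Set G) :=
    Subgroup.centralizer_le_normalizer _
      (mem_centralizer_iff.2 fun a ha => ((hg a ha).symm : Commute a g).eq)
  obtain ⟨π, hπ, h, hh, rfl⟩ := hH.decomp g hgN
  have hπh : Commute π h := by
    have h1 : Commute (π * h) π := hg π hπ
    have h2 : π * h * π = π * (π * h) := h1
    rw [mul_assoc π h π] at h2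
    exact (mul_left_cancel h2).symm
  have hπc : (orderOf π).Coprime p := by
    have h3 : (π * h) ^ Nat.card H = π ^ Nat.card H := by
      rw [hπh.mul_pow]
      have : h ^ Nat.card H = 1 :=
        orderOf_dvd_iff_pow_eq_one.1 (Subgroup.orderOf_dvd_natCard _ hh)
      rw [this, mul_one]
    have h4 : (π ^ Nat.card H) = 1 := eq_one_of_pGroup_coprime P.2 (pow_mem hπ _)
      (h3 ▸ hc.coprime_dvd_left (orderOf_pow_dvd _))
    exact (hp.out.coprime_iff_not_dvd.2 hH.prime_to).symm.coprime_dvd_left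
      (orderOf_dvd_of_pow_eq_one h4)
  rwa [eq_one_of_pGroup_coprime P.2 hπ hπc, one_mul]

/-- Elements of `N(P)` of `p`-power order lie in `P`. -/
theorem mem_of_pElement {P : Sylow p G} {g : G} (hg : g ∈ normalizer ((P : Subgroup G) : Set G))
    (hgp : IsPGroup p (zpowers g)) : g ∈ (P : Subgroup G) := by
  have h := IsPGroup.to_sup_of_normal_right' hgp P.2 ((zpowers_le (H := _)).2 hg)
  rw [← P.3 h le_sup_right]
  exact mem_sup_left (mem_zpowers g)

/-- The solvable case. -/
theorem dichotomy_of_solvable (hG : Hyp p G) [Group.IsSolvable G] :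
    Cfsg.HasNormalPComplement p G ∨ ∀ P : Sylow p G, (P : Subgroup G).Normal := by
  obtain ⟨P⟩ : Nonempty (Sylow p G) := inferInstance
  haveI := hG.cyclic P
  set K := pPrimeCore p G with hKdef
  haveI hPK : ((P : Subgroup G) ⊔ K).Normal :=
    CfsgLib.Core.sylow_sup_pPrimeCore_normal_of_abelian P
      ⟨⟨fun a b => Subtype.ext (hG.commP P a.2 b.2)⟩⟩
  haveI hKn : K.Normal := by rw [hKdef]; infer_instance
  have hFr : normalizer ((P : Subgroup G) : Set G) ⊔ ((P : Subgroup G) ⊔ K) = ⊤ :=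
    Sylow.normalizer_sup_eq_top' P le_sup_left
  have hK : ¬ p ∣ Nat.card K :=
    hp.out.coprime_iff_not_dvd.1 (CfsgLib.Core.coprime_card_pPrimeCore p G).symm
  have htop : normalizer ((P : Subgroup G) : Set G) ⊔ K = ⊤ := by
    rw [← hFr, ← sup_assoc, sup_eq_left.2 (le_normalizer : (P : Subgroup G) ≤ _)]
  obtain ⟨H, hH⟩ := exists_isCompl P
  have hHK : ¬ p ∣ Nat.card (H ⊔ K : Subgroup G) :=
    hp.out.coprime_iff_not_dvd.1 (CfsgLib.Core.coprime_card_sup
      (fun x _ => (normalizer_eq_top (H := K)).symm ▸ mem_top x)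
      (hp.out.coprime_iff_not_dvd.2 hH.prime_to).symm
      (hp.out.coprime_iff_not_dvd.2 hK).symm).symm
  have hNle : normalizer ((P : Subgroup G) : Set G) ≤ (P : Subgroup G) ⊔ H := fun g hg => by
    obtain ⟨π, hπ, h, hh, rfl⟩ := hH.decomp g hg
    exact mul_mem (mem_sup_left hπ) (mem_sup_right hh)
  by_cases hcen : ∀ h ∈ H, ∀ a ∈ (P : Subgroup G), Commute h a
  · -- `H ⊔ K` is a normal complement
    left
    have hPn : ∀ a ∈ (P : Subgroup G), ∀ x ∈ H ⊔ K, a * x * a⁻¹ ∈ H ⊔ K := by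
      intro a ha x hx
      obtain ⟨h, hh, k, hk, rfl⟩ := Subgroup.mem_sup_of_normal_right.1 hx
      rw [show a * (h * k) * a⁻¹ = (a * h * a⁻¹) * (a * k * a⁻¹) by group,
        ((hcen h hh a ha).symm : Commute a h).eq, mul_inv_cancel_right]
      exact mul_mem (mem_sup_left hh) (mem_sup_right (hKn.conj_mem k hk a))
    haveI : (H ⊔ K).Normal := by
      rw [← normalizer_eq_top_iff, eq_top_iff, ← htop]
      refine sup_le (hNle.trans (sup_le ?_ (le_sup_left.trans le_normalizer)))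
        (le_sup_right.trans le_normalizer)
      intro a ha
      rw [mem_normalizer_iff]
      refine fun x => ⟨hPn a ha x, fun hx => ?_⟩
      simpa [mul_assoc] using hPn a⁻¹ (inv_mem ha) _ hx
    refine CfsgLib.Transfer.hasNormalPComplement_iff_exists.2 ⟨H ⊔ K, inferInstance,
      (hp.out.coprime_iff_not_dvd.2 hHK).symm, ?_⟩
    refine IsPGroup.of_surjective P.2 ((QuotientGroup.mk' (H ⊔ K)).comp (P : Subgroup G).subtype)
      fun q => ?_
    obtain ⟨g, rfl⟩ := QuotientGroup.mk'_surjective (H ⊔ K) q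
    have hg : g ∈ (P : Subgroup G) ⊔ (H ⊔ K) := by
      have : (⊤ : Subgroup G) ≤ (P : Subgroup G) ⊔ (H ⊔ K) := by
        rw [← htop, ← sup_assoc]
        exact sup_le_sup_right hNle K
      exact this (mem_top g)
    obtain ⟨π, hπ, x, hx, rfl⟩ := Subgroup.mem_sup_of_normal_right.1 hg
    refine ⟨⟨π, hπ⟩, ?_⟩
    simp only [MonoidHom.comp_apply, coe_subtype, QuotientGroup.mk'_apply]
    rw [QuotientGroup.eq]
    simpa using hx
  · -- `P` is normal
    right
    push Not at hcen
    obtain ⟨h, hh, a, ha, hne⟩ := hcen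
    have hPcK : ∀ π ∈ (P : Subgroup G), ∀ k ∈ K, Commute π k := by
      intro π hπ k hk
      obtain ⟨b, hb, rfl⟩ := exists_commutator P.2 (hH.le hh) (coprime_of_mem hH.prime_to hh) ha
        hne hπ
      have hc : ∀ k ∈ K, Commute h k := fun k hk =>
        hG.comm hHK (mem_sup_left hh) (mem_sup_right hk)
      have h1 : Commute (b * h * b⁻¹) k := by
        show b * h * b⁻¹ * k = k * (b * h * b⁻¹)
        calc b * h * b⁻¹ * k = b * (h * (b⁻¹ * k * b)) * b⁻¹ := by group
          _ = b * (b⁻¹ * k * b * h) * b⁻¹ := by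
              rw [(hc _ (by simpa using hKn.conj_mem k hk b⁻¹)).eq]
          _ = _ := by group
      exact h1.mul_left (hc k hk).inv_left
    have hN : normalizer ((P : Subgroup G) : Set G) = ⊤ := by
      rw [eq_top_iff, ← htop]
      exact sup_le le_rfl fun k hk => Subgroup.centralizer_le_normalizer _
        (mem_centralizer_iff.2 fun π hπ => (hPcK π hπ k hk).eq)
    intro S
    obtain ⟨g, rfl⟩ := MulAction.exists_smul_eq G P S
    have hn : (P : Subgroup G).Normal := normalizer_eq_top_iff.1 hN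
    rw [Sylow.smul_eq_iff_mem_normalizer.2 (hN.symm ▸ mem_top g)]
    exact hn

end CfsgLib.Orders.CyclicAbelian
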