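import Cfsg.Agent.Lib.Orders.CyclicAbelianComplement.Klein
import Cfsg.Agent.Lib.Blocks.KleinOrder
import Cfsg.Agent.Lib.CharDegree.Basic
import Cfsg.Agent.Lib.ZStar.PrincipalBlock

/-!
# The case that a `p'`-element centralizes a Sylow `p`-subgroup: counting

Counting products of two involutions bounds the number of involutions from above, the order
formula of the principal `2`-block from below.
-/

set_option autoImplicit false
set_option linter.all false

namespace CfsgLib.Orders.CyclicAbelian

open Cfsg Subgroup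
open scoped Classical commutatorElement

universe u

variable {G : Type u} [Group G] [Finite G] {p : ℕ} [hp : Fact p.Prime] (C : Simple p G)
  (hall : ∀ P : Sylow p G, ∃ (H : Subgroup G) (y : G), KleinData P H y)
include C hall

theorem Simple.involution_unique {P : Sylow p G} {H : Subgroup G} {y w : G}
    (K : KleinData P H y) (hw : orderOf w = 2) (hwP : ∀ a ∈ (P : Subgroup G), Commute w a) :
    w = y := by
  have hwc : (orderOf w).Coprime p := by rw [hw, K.prime_eq]; decide
  rcases K.unique w (K.isCompl.mem_of_centralizes C.hyp hwc hwP) hwP with e | e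
  · rw [e, orderOf_one] at hw; omega
  · exact e

theorem Simple.card_normalizer_klein {P : Sylow p G} {H : Subgroup G} {y : G}
    (K : KleinData P H y) :
    Nat.card (normalizer ((P : Subgroup G) : Set G)) = 4 * Nat.card (P : Subgroup G) := by
  have e : normalizer ((P : Subgroup G) : Set G) = H ⊔ (P : Subgroup G) := by
    refine le_antisymm (fun g hg => ?_) (sup_le K.isCompl.le le_normalizer)
    obtain ⟨π, hπ, h, hh, rfl⟩ := K.isCompl.decomp g hg
    exact mul_mem (mem_sup_right hπ) (mem_sup_left hh)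
  rw [e, CfsgLib.Core.card_sup_of_coprime _ _ K.isCompl.le, K.card]
  rw [K.card]
  obtain ⟨k, hk⟩ := IsPGroup.iff_card.1 P.2
  rw [hk, K.prime_eq]
  exact Nat.Coprime.pow_right k (by decide)

theorem Simple.sylow_two_klein {P : Sylow p G} {H : Subgroup G} {y : G} (K : KleinData P H y) :
    ∃ S : Sylow 2 G, (S : Subgroup G) = H := by
  haveI : Fact (Nat.Prime 2) := ⟨Nat.prime_two⟩
  obtain ⟨S, hS⟩ := (IsPGroup.of_card (n := 2) (by rw [K.card]; norm_num) :
    IsPGroup 2 H).exists_le_sylow
  refine ⟨S, le_antisymm (fun g hg => K.self g fun a ha => C.hyp.comm ?_ hg (hS ha)) hS⟩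
  obtain ⟨k, hk⟩ := IsPGroup.iff_card.1 S.2
  rw [hk, K.prime_eq]
  intro h
  exact absurd ((Nat.prime_dvd_prime_iff_eq Nat.prime_three Nat.prime_two).1
    (Nat.prime_three.dvd_of_dvd_pow h)) (by decide)

theorem Simple.isConj_klein {P : Sylow p G} {H : Subgroup G} {y : G} (K : KleinData P H y) {w : G}
    (hw : orderOf w = 2) : IsConj y w := by
  haveI : Fact (Nat.Prime 2) := ⟨Nat.prime_two⟩
  obtain ⟨S, hS⟩ := C.sylow_two_klein hall K
  obtain ⟨T, hT⟩ := exists_sylow_mem (p := 2)
    (IsPGroup.of_card (n := 1) (by rw [Nat.card_zpowers, hw, pow_one]) : IsPGroup 2 (zpowers w))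
  obtain ⟨g, hg⟩ := MulAction.exists_smul_eq G T S
  have hm : g * w * g⁻¹ ∈ H := by
    rw [← hS, ← hg, Sylow.coe_subgroup_smul]
    exact ⟨w, hT, rfl⟩
  have h1 : g * w * g⁻¹ ≠ 1 := fun e => by
    rw [conj_eq_one_iff.1 e, orderOf_one] at hw
    omega
  exact (K.conj _ hm h1).trans (isConj_iff.2 ⟨g, rfl⟩ : IsConj w (g * w * g⁻¹)).symm

theorem Simple.exists_sylow_of_involution {P : Sylow p G} {H : Subgroup G} {y : G}
    (K : KleinData P H y) {w : G} (hw : orderOf w = 2) :
    ∃ Q : Sylow p G, (∀ a ∈ (Q : Subgroup G), Commute w a) ∧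
      centralizer ({w} : Set G) = normalizer ((Q : Subgroup G) : Set G) := by
  obtain ⟨g, hg⟩ := isConj_iff.1 (C.isConj_klein hall K hw)
  have hc : ∀ a ∈ ((g • P : Sylow p G) : Subgroup G), Commute w a := by
    intro a ha
    rw [Sylow.coe_subgroup_smul] at ha
    obtain ⟨b, hb, rfl⟩ := ha
    rw [← hg]
    exact (Commute.conj_iff g).2 (K.centralizes b hb)
  refine ⟨g • P, hc, C.centralizer_eq ?_ hc fun e => by simp [e] at hw⟩
  rw [hw, K.prime_eq]; decide

/-- The counting bound. -/
theorem Simple.card_involutions_le {P : Sylow p G} {H : Subgroup G} {y : G} (K : KleinData P H y) :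
    Nat.card {v : G // orderOf v = 2} ≤
      1 + 2 * Nat.card (P : Subgroup G) +
        (2 * Nat.card (P : Subgroup G)) * (2 * Nat.card (P : Subgroup G)) := by
  set n := Nat.card (P : Subgroup G) with hn
  set N := normalizer ((P : Subgroup G) : Set G) with hN
  have hyy : y * y = 1 := K.sq y K.mem
  have hy1 : y ≠ 1 := fun e => by have := K.order; rw [e, orderOf_one] at this; omega
  have hyinv : y⁻¹ = y := inv_eq_of_mul_eq_one_right hyy
  let J : Type u := {w : G // orderOf w = 2 ∧ w ∈ N ∧ w ≠ y}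
  have hJ : Nat.card J ≤ 2 * n := by
    let f : J ⊕ (↥(P : Subgroup G) × Bool) → N := Sum.elim (fun w => ⟨w.1, w.2.2.1⟩)
      fun ab => ⟨(ab.1 : G) * (bif ab.2 then y else 1),
        mul_mem (le_normalizer ab.1.2) (by cases ab.2; exacts [one_mem _, K.isCompl.le K.mem])⟩
    have hnot : ∀ a ∈ (P : Subgroup G), ∀ b : Bool, orderOf (a * bif b then y else 1) = 2 →
        (a * bif b then y else 1) = y := by
      intro a ha b ho
      refine C.involution_unique hall K ho fun c hc => ?_
      cases b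
      · simpa using C.hyp.commP P ha hc
      · exact (C.hyp.commP P ha hc).mul_left (K.centralizes c hc)
    have hf : Function.Injective f := by
      rintro (w | ⟨a, b⟩) (w' | ⟨a', b'⟩) e
      · exact congrArg Sum.inl
          (Subtype.ext (congrArg (fun z : N => (z : G)) e : (w.1 : G) = w'.1))
      · have e' : w.1 = a' * bif b' then y else 1 := congrArg Subtype.val e
        exact absurd (e'.trans (hnot a' a'.2 b' (e' ▸ w.2.1))) w.2.2.2
      · have e' : (a : G) * (bif b then y else 1) = w'.1 := congrArg Subtype.val e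
        exact absurd (e'.symm.trans (hnot a a.2 b (e'.symm ▸ w'.2.1))) w'.2.2.2
      · have e' : (a : G) * (bif b then y else 1) = a' * bif b' then y else 1 :=
          congrArg Subtype.val e
        have hyP : y ∉ (P : Subgroup G) := fun h => hy1 (eq_one_of_pGroup_coprime P.2 h
          (coprime_of_mem K.isCompl.prime_to K.mem))
        cases b <;> cases b' <;> simp only [cond_false, cond_true, mul_one] at e'
        · rw [Subtype.ext e']
        · exact absurd ((Subgroup.mul_mem_cancel_left _ a'.2).1 (e' ▸ a.2)) hyP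
        · exact absurd ((Subgroup.mul_mem_cancel_left _ a.2).1 (e'.symm ▸ a'.2)) hyP
        · rw [Subtype.ext (mul_right_cancel e')]
    have h := Nat.card_le_card_of_injective f hf
    rw [Nat.card_sum, Nat.card_prod, C.card_normalizer_klein hall K, Nat.card_eq_fintype_card (α := Bool),
      Fintype.card_bool] at h
    omega
  choose Q hQc hQe using fun w : J => C.exists_sylow_of_involution hall K w.2.1
  let Z := Unit ⊕ (J ⊕ (Σ w : J, Bool × (Q w : Subgroup G)))
  let val : Z → G := Sum.elim (fun _ => y) (Sum.elim (fun w => w.1)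
    fun d => y * ((d.2.2 : G) * bif d.2.1 then d.1.1 else 1))
  have hsurj : ∀ v : {v : G // orderOf v = 2}, ∃ z : Z, val z = v := by
    rintro ⟨v, hv⟩
    rcases eq_or_ne v y with rfl | hvy
    · exact ⟨Sum.inl (), rfl⟩
    by_cases hvN : v ∈ N
    · exact ⟨Sum.inr (Sum.inl ⟨v, hv, hvN, hvy⟩), rfl⟩
    obtain ⟨a, ha, b, hb, hab, hap, hbc⟩ := exists_parts (p := p) (y * v)
    have hinv : ∀ z ∈ zpowers (y * v), y * z * y⁻¹ = z⁻¹ := by
      intro z hz
      obtain ⟨k, rfl⟩ := mem_zpowers_iff.1 hz
      rw [← conj_zpow, CfsgLib.Signalizer.conj_mul_eq_inv K.order hv, inv_zpow]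
    have hyb : zpowers y ≤ normalizer (zpowers b : Set G) := by
      rw [zpowers_le]
      refine mem_normalizer_iff.2 fun z => ⟨fun hz => ?_, fun hz => ?_⟩
      · rw [hinv z ((zpowers_le (H := zpowers (y * v))).2 hb hz)]; exact inv_mem hz
      · have h1 := hinv _ ((zpowers_le (H := zpowers (y * v))).2 hb hz)
        have h2 : y * (y * z * y⁻¹) * y⁻¹ = z := by
          calc y * (y * z * y⁻¹) * y⁻¹ = (y * y) * z * (y * y)⁻¹ := by group
            _ = z := by rw [hyy]; group
        rw [h2] at h1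
        rw [h1]; exact inv_mem hz
    have hsub : ¬ p ∣ Nat.card (zpowers y ⊔ zpowers b : Subgroup G) :=
      hp.out.coprime_iff_not_dvd.1 (CfsgLib.Core.coprime_card_sup hyb
        (by rw [Nat.card_zpowers, K.order, K.prime_eq]; decide)
        (by rw [Nat.card_zpowers]; exact hbc)).symm
    have hb2 : b = b⁻¹ := by
      rw [← hinv b hb,
        C.hyp.comm hsub (mem_sup_left (mem_zpowers y)) (mem_sup_right (mem_zpowers b)),
        mul_inv_cancel_right]
    have hbb : b * b = 1 := mul_eq_one_iff_eq_inv.2 hb2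
    have ha1 : a ≠ 1 := by
      intro e
      rw [e, one_mul] at hab
      refine hvN (?_ : v ∈ normalizer ((P : Subgroup G) : Set G))
      rw [← K.centralizer_eq, mem_centralizer_singleton_iff]
      rw [← hab, mul_inv_rev, hyinv, CfsgLib.Signalizer.involution_inv hv] at hb2
      exact hb2.symm
    obtain ⟨S, hS⟩ := exists_sylow_mem hap
    have hyS : y ∈ normalizer ((S : Subgroup G) : Set G) :=
      C.mem_normalizer hS ha1 (by rw [hinv a ha]; exact inv_mem hS)
    obtain ⟨H', w, K'⟩ := hall S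
    have hyw : y ≠ w := by
      intro e
      have h1 : Commute y a := e ▸ K'.centralizes a hS
      have h2 := hinv a ha
      rw [h1.eq, mul_inv_cancel_right] at h2
      have h3 : (orderOf a) ∣ 2 := orderOf_dvd_of_pow_eq_one (by rw [pow_two]; exact mul_eq_one_iff_eq_inv.2 h2)
      refine ha1 (eq_one_of_pGroup_coprime S.2 hS ?_)
      exact (show (2 : ℕ).Coprime p by rw [K.prime_eq]; decide).coprime_dvd_left h3
    have hwN : w ∈ N := by
      rw [hN, ← K.centralizer_eq, mem_centralizer_singleton_iff]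
      have : y ∈ centralizer ({w} : Set G) := K'.centralizer_eq ▸ hyS
      exact ((mem_centralizer_singleton_iff.1 this : y * w = w * y)).symm
    set w' : J := ⟨w, K'.order, hwN, fun e => hyw e.symm⟩ with hw'
    have hSQ : (S : Subgroup G) ≤ (Q w' : Subgroup G) := by
      intro c hc
      refine mem_of_pElement ?_ (S.2.to_le ((zpowers_le (H := (S : Subgroup G))).2 hc))
      rw [← hQe w', mem_centralizer_singleton_iff]
      exact ((K'.centralizes c hc).symm).eq
    have hb' : b = 1 ∨ b = w := by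
      have hba : Commute b a := by
        obtain ⟨i, rfl⟩ := mem_zpowers_iff.1 hb
        obtain ⟨j, rfl⟩ := mem_zpowers_iff.1 ha
        exact Commute.zpow_zpow (Commute.refl _) i j
      have hbS : ∀ c ∈ (S : Subgroup G), Commute b c := fun c hc =>
        C.centralizes hS ha1 hbc hba hc
      exact K'.unique b (K'.isCompl.mem_of_centralizes C.hyp hbc hbS) hbS
    have hvv : v = y * (a * b) := by rw [← hab, ← mul_assoc, hyy, one_mul]
    rcases hb' with rfl | rfl
    · exact ⟨Sum.inr (Sum.inr ⟨w', false, ⟨a, hSQ hS⟩⟩), by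
        show y * (a * (bif false then w else 1)) = v
        rw [hvv]; rfl⟩
    · exact ⟨Sum.inr (Sum.inr ⟨w', true, ⟨a, hSQ hS⟩⟩), by
        show y * (a * (bif true then b else 1)) = v
        rw [hvv]; rfl⟩
  choose f hf using hsurj
  refine le_trans (Nat.card_le_card_of_injective f fun a b e => Subtype.ext ?_) ?_
  · rw [← hf a, ← hf b, e]
  · haveI := Fintype.ofFinite J
    rw [Nat.card_sum, Nat.card_sum, Nat.card_sigma, Nat.card_unique,
      Finset.sum_congr rfl fun w _ => show Nat.card (Bool × (Q w : Subgroup G)) = 2 * n by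
        rw [Nat.card_prod, Nat.card_eq_fintype_card (α := Bool), Fintype.card_bool,
          Nat.card_congr ((Q w).equiv P).toEquiv],
      Finset.sum_const, Finset.card_univ, smul_eq_mul, ← Nat.card_eq_fintype_card]
    have := Nat.mul_le_mul_right (2 * n) hJ
    omega

/-- The Klein case is impossible. -/
theorem Simple.false_of_klein : False := by
  obtain ⟨P⟩ : Nonempty (Sylow p G) := inferInstance
  obtain ⟨H, y, K⟩ := hall P
  haveI : Fact (Nat.Prime 2) := ⟨Nat.prime_two⟩
  set u := Nat.card (P : Subgroup G) with hu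
  have hu3 : 3 ≤ u := by
    have := Nat.le_of_dvd Nat.card_pos (P.dvd_card_of_dvd_card C.dvd)
    have := K.prime_eq
    omega
  let I := {v : G // orderOf v = 2}
  set i := Nat.card I with hi
  have hupper : i ≤ 1 + 2 * u + 2 * u * (2 * u) := C.card_involutions_le hall K
  have hct : Nat.card (centralizer ({y} : Set G)) = 4 * u := by
    rw [K.centralizer_eq, C.card_normalizer_klein hall K]
  have hG1 : i * (4 * u) = Nat.card G := by
    rw [← hct, hi]
    have e : Nat.card (G ⧸ centralizer ({y} : Set G)) = Nat.card I := by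
      refine Nat.card_congr (Equiv.ofBijective (Quotient.lift
        (fun g : G => (⟨g * y * g⁻¹, by rw [CfsgLib.Signalizer.orderOf_conj, K.order]⟩ : I)) ?_)
        ⟨?_, ?_⟩)
      · intro a b hab
        have h := QuotientGroup.leftRel_apply.1 hab
        rw [mem_centralizer_singleton_iff] at h
        refine Subtype.ext ?_
        show a * y * a⁻¹ = b * y * b⁻¹
        calc a * y * a⁻¹ = a * (y * (a⁻¹ * b)) * b⁻¹ := by group
          _ = a * (a⁻¹ * b * y) * b⁻¹ := by rw [h]
          _ = _ := by group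
      · intro x z
        refine Quotient.inductionOn₂ x z fun a b e => Quotient.sound ?_
        refine QuotientGroup.leftRel_apply.2 (mem_centralizer_singleton_iff.2 ?_)
        have e' : a * y * a⁻¹ = b * y * b⁻¹ := congrArg Subtype.val e
        calc a⁻¹ * b * y = a⁻¹ * (b * y * b⁻¹) * b := by group
          _ = a⁻¹ * (a * y * a⁻¹) * b := by rw [e']
          _ = _ := by group
      · rintro ⟨v, hv⟩
        obtain ⟨g, hg⟩ := isConj_iff.1 (C.isConj_klein hall K hv)
        exact ⟨Quotient.mk _ g, Subtype.ext hg⟩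
    rw [← e]
    exact (Subgroup.card_eq_card_quotient_mul_card_subgroup _).symm
  obtain ⟨Q', hQ'⟩ := C.sylow_two_klein hall K
  have hQ'K : IsKleinFour (Q' : Subgroup G) := by
    rw [hQ']
    refine ⟨K.card, ?_⟩
    haveI : Nontrivial H := by
      rw [← Finite.one_lt_card_iff_nontrivial, K.card]; norm_num
    refine (Monoid.exponent_eq_prime_iff Nat.prime_two).2 fun g hg => ?_
    exact orderOf_eq_prime (Subtype.ext (by rw [SubgroupClass.coe_pow, pow_two]; exact K.sq g g.2)) hg
  -- the order formula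
  haveI := Fintype.ofFinite G
  obtain ⟨J, hJ⟩ := CfsgLib.ZStar.exists_isPModular Nat.prime_two
  haveI : J.IsPrime := hJ.2.1.isPrime
  have hone : ∀ a b : G, orderOf a = 2 → orderOf b = 2 → IsConj a b := fun a b ha hb =>
    (C.isConj_klein hall K ha).symm.trans (C.isConj_klein hall K hb)
  have hyQ : y ∈ (Q' : Subgroup G) := hQ'.symm ▸ K.mem
  have hformula := CfsgLib.Blocks.order_formula (G := G) Q' hQ'K hone hJ (J := y) hyQ K.order
  obtain ⟨hk4, hsign⟩ := CfsgLib.Blocks.principal_signs Q' hQ'K hone hJ (z := y) hyQ K.order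
  have hCQ : Nat.card (centralizer ((Q' : Subgroup G) : Set G)) = 4 := by
    rw [hQ', ← K.card]
    refine congrArg (fun S : Subgroup G => Nat.card S) (le_antisymm (fun g hg => K.self g fun a ha =>
      (mem_centralizer_iff.1 hg a ha).symm) fun g hg => mem_centralizer_iff.2 fun a ha =>
      C.hyp.comm K.isCompl.prime_to ha hg)
  haveI := Fintype.ofFinite (IrrCharacter G)
  set B := (Set.toFinite (principalBlock J G)).toFinset with hB
  have hmemB : ∀ χ, χ ∈ B ↔ χ ∈ principalBlock J G := fun χ => Set.Finite.mem_toFinset _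
  choose! ε hε1 hε2 hε3 using hsign
  set d : IrrCharacter G → ℕ := fun χ => charDegree (χ : G → ℂ) with hd
  have hSeq : ∑ᶠ χ ∈ principalBlock J G, (χ : G → ℂ) y ^ 3 / (χ : G → ℂ) 1 =
      ((∑ χ ∈ B, (ε χ : ℝ) / (d χ : ℝ) : ℝ) : ℂ) := by
    rw [finsum_mem_eq_finite_toFinset_sum _ (Set.toFinite _), Complex.ofReal_sum]
    refine Finset.sum_congr rfl fun χ hχ => ?_
    rw [hε2 χ ((hmemB χ).1 hχ), CfsgLib.Blocks.apply_one_eq_charDegree]
    have h3 : ε χ ^ 3 = ε χ := by
      rcases hε1 χ ((hmemB χ).1 hχ) with e | e <;> rw [e] <;> norm_num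
    push_cast
    rw [← Int.cast_pow, h3]
  set S : ℝ := ∑ χ ∈ B, (ε χ : ℝ) / (d χ : ℝ) with hS
  rw [hSeq, hct, hCQ, ← hG1] at hformula
  have heq : 8 * ((u : ℝ) * u) = (i : ℝ) * S := by
    have h1 : (8 : ℂ) * ((u : ℂ) * u) * (64 * (u : ℂ)) = (i : ℂ) * (S : ℂ) * (64 * (u : ℂ)) := by
      push_cast at hformula
      linear_combination hformula
    have hu0 : (u : ℂ) ≠ 0 := Nat.cast_ne_zero.2 (by omega)
    have h2 := mul_right_cancel₀ (mul_ne_zero (by norm_num) hu0) h1
    exact_mod_cast h2
  have htriv : CfsgLib.Char.trivChar G ∈ B :=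
    (hmemB _).2 CfsgLib.Blocks.trivChar_mem_principalBlock
  have hdpos : ∀ χ : IrrCharacter G, 0 < d χ := fun χ => CfsgLib.Blocks.charDegree_pos χ
  have hd1 : ∀ χ ∈ B, χ ≠ CfsgLib.Char.trivChar G → d χ ≠ 1 := by
    intro χ hχ hne' h1
    have h2 := (CfsgLib.CharDegree.charDegree_eq_one_iff_commutator χ).1 h1
    have htop : commutator G = ⊤ := by
      rcases C.eq_bot_or_top (commutator G) inferInstance with h | h
      · exfalso
        obtain ⟨a, b, hab⟩ := C.noncomm
        have hm : ⁅a, b⁆ ∈ commutator G :=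
          Subgroup.commutator_mem_commutator (mem_top a) (mem_top b)
        rw [h, Subgroup.mem_bot] at hm
        exact hab (commutatorElement_eq_one_iff_commute.1 hm)
      · exact h
    refine hne' (Subtype.ext (funext fun g => ?_))
    rw [h2 g (htop ▸ mem_top g), CfsgLib.Blocks.apply_one_eq_charDegree, CfsgLib.Char.trivChar_apply]
    show ((d χ : ℕ) : ℂ) = 1
    rw [h1, Nat.cast_one]
  have hterm : ∀ χ ∈ B, χ ≠ CfsgLib.Char.trivChar G → (ε χ : ℝ) / (d χ : ℝ) ≤ 1 / 5 := by
    intro χ hχ hne'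
    rcases hε1 χ ((hmemB χ).1 hχ) with e | e
    · have hdd : 5 ≤ d χ := by
        have h1 := hε3 χ ((hmemB χ).1 hχ)
        rw [e] at h1
        have := hd1 χ hχ hne'
        have := hdpos χ
        obtain ⟨c, hc⟩ := h1
        have hc' : (d χ : ℤ) - 1 = 4 * c := hc
        omega
      rw [e, Int.cast_one]
      refine one_div_le_one_div_of_le (by norm_num) ?_
      exact_mod_cast hdd
    · rw [e]
      refine le_trans (div_nonpos_of_nonpos_of_nonneg (by norm_num) (Nat.cast_nonneg _)) ?_
      norm_num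
  have hεtriv : ε (CfsgLib.Char.trivChar G) = 1 := by
    have h := hε2 _ ((hmemB _).1 htriv)
    rw [CfsgLib.Char.trivChar_apply] at h
    exact_mod_cast h.symm
  have hneg : ∃ χ ∈ B, ε χ = -1 := by
    by_contra hcon
    push Not at hcon
    have h := CfsgLib.Blocks.sum_block_regular_singular hJ
      (CfsgLib.Blocks.isPBlock_principalBlock (M := J) (G := G)) (x := (1 : G)) (y := y)
      (by simp) (by rw [K.order])
    rw [finsum_mem_eq_finite_toFinset_sum _ (Set.toFinite _), ← hB] at h
    have h1 : ((∑ χ ∈ B, d χ : ℕ) : ℂ) = 0 := by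
      rw [← h, Nat.cast_sum]
      refine Finset.sum_congr rfl fun χ hχ => ?_
      rw [CfsgLib.Blocks.apply_one_eq_charDegree, hε2 χ ((hmemB χ).1 hχ),
        ((hε1 χ ((hmemB χ).1 hχ)).resolve_right (hcon χ hχ)), Int.cast_one, mul_one]
    exact (Finset.sum_pos (fun χ _ => hdpos χ) ⟨_, htriv⟩).ne' (by exact_mod_cast h1)
  obtain ⟨χ₁, hχ₁, hχ₁e⟩ := hneg
  have hχ₁ne : χ₁ ≠ CfsgLib.Char.trivChar G := fun e => by
    rw [e, hεtriv] at hχ₁e; norm_num at hχ₁e
  have hB4 : B.card = 4 := by
    rw [← hk4, Nat.card_coe_set_eq, Set.ncard_eq_toFinset_card _ (Set.toFinite _)]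
  have hSle : S ≤ 7 / 5 := by
    have h1 : χ₁ ∈ B.erase (CfsgLib.Char.trivChar G) := Finset.mem_erase.2 ⟨hχ₁ne, hχ₁⟩
    rw [hS, ← Finset.add_sum_erase B _ htriv, ← Finset.add_sum_erase _ _ h1]
    have hA : (ε (CfsgLib.Char.trivChar G) : ℝ) / (d (CfsgLib.Char.trivChar G) : ℝ) ≤ 1 := by
      rw [hεtriv, Int.cast_one, div_le_one (by exact_mod_cast hdpos _)]
      exact_mod_cast hdpos _
    have hBb : (ε χ₁ : ℝ) / (d χ₁ : ℝ) ≤ 0 := by
      rw [hχ₁e]
      exact div_nonpos_of_nonpos_of_nonneg (by norm_num) (Nat.cast_nonneg _)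
    have hrest := Finset.sum_le_card_nsmul ((B.erase (CfsgLib.Char.trivChar G)).erase χ₁)
      (fun χ => (ε χ : ℝ) / (d χ : ℝ)) (1 / 5) fun χ hχ => hterm χ
        (Finset.mem_of_mem_erase (Finset.mem_of_mem_erase hχ))
        (Finset.ne_of_mem_erase (Finset.mem_of_mem_erase hχ))
    rw [Finset.card_erase_of_mem h1, Finset.card_erase_of_mem htriv, hB4] at hrest
    norm_num at hrest
    linarith
  have hup : (i : ℝ) ≤ 1 + 2 * (u : ℝ) + 2 * u * (2 * u) := by exact_mod_cast hupper
  have hu3' : (3 : ℝ) ≤ u := by exact_mod_cast hu3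
  nlinarith [mul_le_mul_of_nonneg_left hSle (Nat.cast_nonneg i : (0 : ℝ) ≤ i)]

end CfsgLib.Orders.CyclicAbelian
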