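import Cfsg.Agent.Lib.Orders.CyclicAbelianComplement.Simple
import Cfsg.Agent.Lib.Char.CATheorem

/-!
# The case that no `p'`-element centralizes a Sylow `p`-subgroup

The group is then a group with abelian centralizers. It has even order by Suzuki's theorem, all
its involutions are conjugate, and counting noncommuting pairs of involutions gives a
contradiction modulo a power of `p`.
-/

set_option autoImplicit false
set_option linter.all false

namespace CfsgLib.Orders.CyclicAbelian

open Cfsg Subgroup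
open scoped Classical commutatorElement

universe u

variable {G : Type u} [Group G] [Finite G] {p : ℕ} [hp : Fact p.Prime] (C : Simple p G)
  (hfree : ∀ (P : Sylow p G) (g : G), (orderOf g).Coprime p →
    (∀ a ∈ (P : Subgroup G), Commute g a) → g = 1)

section
include C hfree

theorem Simple.mem_sylow_of_commute {P : Sylow p G} {x g : G} (hx : x ∈ (P : Subgroup G))
    (hx1 : x ≠ 1) (hg : Commute g x) : g ∈ (P : Subgroup G) := by
  obtain ⟨a, ha, b, hb, rfl, hap, hbc⟩ := exists_parts (p := p) g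
  have hcomm : ∀ y ∈ zpowers (a * b), Commute y x := by
    intro y hy
    obtain ⟨k, rfl⟩ := mem_zpowers_iff.1 hy
    exact hg.zpow_left k
  rw [hfree P b hbc fun y hy => C.centralizes hx hx1 hbc (hcomm b hb) hy, mul_one]
  exact mem_of_pElement (C.centralizer_le hx hx1 (hcomm a ha)) hap

theorem Simple.prime_to_centralizer {g : G} (hg1 : g ≠ 1) (hc : (orderOf g).Coprime p) :
    ¬ p ∣ Nat.card (centralizer ({g} : Set G)) := by
  intro h
  obtain ⟨e, he⟩ := exists_prime_orderOf_dvd_card' p h
  rw [← Subgroup.orderOf_coe] at he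
  obtain ⟨P, hP⟩ := exists_sylow_mem (p := p) (a := (e : G))
    (IsPGroup.of_card (n := 1) (by rw [Nat.card_zpowers, he, pow_one]))
  have he1 : (e : G) ≠ 1 := fun h1 => hp.out.ne_one (by rw [← he, h1, orderOf_one])
  refine hg1 (eq_one_of_pGroup_coprime P.2 (C.mem_sylow_of_commute hfree hP he1 ?_) hc)
  exact (mem_centralizer_singleton_iff.1 e.2).symm

theorem Simple.ca {x : G} (hx : x ≠ 1) : ∀ a ∈ centralizer ({x} : Set G),
    ∀ b ∈ centralizer ({x} : Set G), a * b = b * a := by
  obtain ⟨a, ha, b, hb, hab, hap, hbc⟩ := exists_parts (p := p) x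
  by_cases ha1 : a = 1
  · have hxc : (orderOf x).Coprime p := by rwa [hab, ha1, one_mul]
    exact fun a ha b hb => C.hyp.comm (C.prime_to_centralizer hfree hx hxc) ha hb
  · obtain ⟨P, hP⟩ := exists_sylow_mem hap
    have hmem : ∀ g ∈ centralizer ({x} : Set G), g ∈ (P : Subgroup G) := by
      intro g hg
      obtain ⟨k, rfl⟩ := mem_zpowers_iff.1 ha
      exact C.mem_sylow_of_commute hfree hP ha1
        (Commute.zpow_right (mem_centralizer_singleton_iff.1 hg : Commute g x) k)
    exact fun g hg g' hg' => (C.hyp.commP P (hmem g hg) (hmem g' hg')).eq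

theorem Simple.even_card : 2 ∣ Nat.card G := by
  by_contra h
  have hperf : commutator G = ⊤ := by
    rcases C.eq_bot_or_top (commutator G) inferInstance with e | e
    · refine (C.false_of_comm fun a b => ?_).elim
      have hm : ⁅a, b⁆ ∈ commutator G :=
        Subgroup.commutator_mem_commutator (mem_top a) (mem_top b)
      rw [e, mem_bot] at hm
      exact (commutatorElement_eq_one_iff_commute.1 hm).eq
    · exact e
  haveI := Fintype.ofFinite G
  haveI := CfsgLib.CA.subsingleton_of_perfect hperf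
    (Nat.not_even_iff_odd.1 fun e => h (even_iff_two_dvd.1 e)) fun x hx => C.ca hfree hx
  exact C.false_of_comm fun a b => Subsingleton.elim _ _

theorem Simple.coprime_involution {u : G} (hu : orderOf u = 2) : (orderOf u).Coprime p := by
  rw [hu]
  exact (Nat.coprime_primes Nat.prime_two hp.out).2 C.odd.symm

theorem Simple.inverts {P : Sylow p G} {w : G} (hw : orderOf w = 2)
    (hwN : w ∈ normalizer ((P : Subgroup G) : Set G)) {a : G} (ha : a ∈ (P : Subgroup G)) :
    w * a * w⁻¹ = a⁻¹ := by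
  have ha' := (mem_normalizer_iff.1 hwN a).1 ha
  have hinv : w⁻¹ = w := CfsgLib.Signalizer.involution_inv hw
  have hfix : Commute w (w * a * w⁻¹ * a) := by
    show w * (w * a * w⁻¹ * a) = w * a * w⁻¹ * a * w
    calc w * (w * a * w⁻¹ * a) = a * (w * a * w⁻¹) * w := by
          rw [hinv]
          simp only [mul_assoc, CfsgLib.Signalizer.involution_sq hw, mul_one]
          rw [← mul_assoc w w, CfsgLib.Signalizer.involution_sq hw, one_mul]
      _ = _ := by rw [(C.hyp.commP P ha ha').eq]
  by_contra hne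
  have h := eq_one_of_pGroup_coprime P.2 (C.mem_sylow_of_commute hfree (mul_mem ha' ha)
    (fun e => hne (eq_inv_of_mul_eq_one_left e)) hfix) (C.coprime_involution hfree hw)
  rw [h, orderOf_one] at hw
  omega

theorem Simple.exists_sylow_of_noncommute {u v : G} (hu : orderOf u = 2) (hv : orderOf v = 2)
    (h : ¬ Commute u v) : ∃ P : Sylow p G, u * v ∈ (P : Subgroup G) ∧ u * v ≠ 1 ∧
      u ∈ normalizer ((P : Subgroup G) : Set G) := by
  obtain ⟨a, ha, b, hb, hab, hap, hbc⟩ := exists_parts (p := p) (u * v)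
  have hinv : ∀ y ∈ zpowers (u * v), u * y * u⁻¹ = y⁻¹ := by
    intro y hy
    obtain ⟨k, rfl⟩ := mem_zpowers_iff.1 hy
    rw [← conj_zpow, CfsgLib.Signalizer.conj_mul_eq_inv hu hv, inv_zpow]
  have huN : zpowers u ≤ normalizer (zpowers b : Set G) := by
    rw [zpowers_le]
    refine mem_normalizer_iff.2 fun y => ⟨fun hy => ?_, fun hy => ?_⟩
    · rw [hinv y ((zpowers_le (H := zpowers (u * v))).2 hb hy)]; exact inv_mem hy
    · have h1 := hinv _ ((zpowers_le (H := zpowers (u * v))).2 hb hy)
      have h2 : u * (u * y * u⁻¹) * u⁻¹ = y := by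
        rw [CfsgLib.Signalizer.involution_inv hu]
        simp [mul_assoc, CfsgLib.Signalizer.involution_sq hu]
        simp [← mul_assoc, CfsgLib.Signalizer.involution_sq hu]
      rw [h2] at h1
      rw [h1]; exact inv_mem hy
  have hub : ¬ p ∣ Nat.card (zpowers u ⊔ zpowers b : Subgroup G) :=
    hp.out.coprime_iff_not_dvd.1 (CfsgLib.Core.coprime_card_sup huN
      (by rw [Nat.card_zpowers]; exact C.coprime_involution hfree hu)
      (by rw [Nat.card_zpowers]; exact hbc)).symm
  have hb2 : b = b⁻¹ := by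
    rw [← hinv b hb, C.hyp.comm hub (mem_sup_left (mem_zpowers u)) (mem_sup_right (mem_zpowers b)),
      mul_inv_cancel_right]
  have ha1 : a ≠ 1 := by
    intro e
    rw [e, one_mul] at hab
    refine h ?_
    rw [← hab, mul_inv_rev, CfsgLib.Signalizer.involution_inv hu,
      CfsgLib.Signalizer.involution_inv hv] at hb2
    exact hb2
  obtain ⟨P, hP⟩ := exists_sylow_mem hap
  have hab' : Commute b a := by
    obtain ⟨i, rfl⟩ := mem_zpowers_iff.1 hb
    obtain ⟨j, rfl⟩ := mem_zpowers_iff.1 ha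
    exact Commute.zpow_zpow (Commute.refl _) i j
  have hb1 : b = 1 :=
    eq_one_of_pGroup_coprime P.2 (C.mem_sylow_of_commute hfree hP ha1 hab') hbc
  rw [hb1, mul_one] at hab
  rw [hab]
  exact ⟨P, hP, ha1, C.mem_normalizer hP ha1 (by rw [hinv a ha]; exact inv_mem hP)⟩

theorem Simple.exists_noncommute {u v : G} (hu : u ≠ 1) (hv : v ≠ 1) :
    ∃ g : G, ¬ Commute (g * v * g⁻¹) u := by
  by_contra hcon
  push Not at hcon
  have hle : normalClosure ({v} : Set G) ≤ centralizer ({u} : Set G) := by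
    refine (closure_le _).2 fun y hy => ?_
    obtain ⟨z, hz, hzy⟩ := Group.mem_conjugatesOfSet_iff.1 hy
    rw [Set.mem_singleton_iff] at hz
    subst hz
    obtain ⟨g, rfl⟩ := isConj_iff.1 hzy
    exact mem_centralizer_singleton_iff.2 (hcon g).eq
  rcases C.eq_bot_or_top (normalClosure ({v} : Set G)) normalClosure_normal with e | e
  · have := subset_normalClosure (s := ({v} : Set G)) (Set.mem_singleton v)
    rw [e] at this
    exact hv (mem_bot.1 this)
  · exact C.centralizer_ne_top hu (eq_top_iff.2 (e ▸ hle))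

theorem Simple.isConj_involution {u v : G} (hu : orderOf u = 2) (hv : orderOf v = 2) :
    IsConj u v := by
  have hne : ∀ w : G, orderOf w = 2 → w ≠ 1 := fun w hw e => by simp [e] at hw
  obtain ⟨g, hg⟩ := C.exists_noncommute hfree (hne u hu) (hne v hv)
  have hw : orderOf (g * v * g⁻¹) = 2 := by rw [CfsgLib.Signalizer.orderOf_conj, hv]
  refine IsConj.trans ?_ (isConj_iff.2 ⟨g, rfl⟩ : IsConj v (g * v * g⁻¹)).symm
  obtain ⟨P, hP, hc1, huN⟩ := C.exists_sylow_of_noncommute hfree hu hw fun e => hg e.symm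
  set c := u * (g * v * g⁻¹) with hc
  have hodd : Odd (orderOf c) := by
    obtain ⟨k, hk⟩ := IsPGroup.iff_orderOf.1 P.2 ⟨c, hP⟩
    rw [Subgroup.orderOf_mk] at hk
    rw [hk]
    exact (hp.out.odd_of_ne_two C.odd).pow
  obtain ⟨l, hl⟩ := hodd
  set d := c ^ (l + 1) with hd
  have hdd : d * d = c := by
    rw [hd, ← pow_add, show l + 1 + (l + 1) = orderOf c + 1 by omega, pow_succ, pow_orderOf_eq_one,
      one_mul]
  refine isConj_iff.2 ⟨d⁻¹, ?_⟩
  have h1 := C.inverts hfree hu huN (pow_mem hP (l + 1) : d ∈ (P : Subgroup G))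
  calc d⁻¹ * u * d⁻¹⁻¹ = (u * d * u⁻¹) * u * d := by rw [h1, inv_inv]
    _ = u * (d * d) := by group
    _ = u * (u * (g * v * g⁻¹)) := by rw [hdd]
    _ = g * v * g⁻¹ := by rw [← mul_assoc, CfsgLib.Signalizer.involution_sq hu, one_mul]

/-- The free case is impossible. -/
theorem Simple.false_of_free : False := by
  obtain ⟨u₀, hu₀⟩ := exists_prime_orderOf_dvd_card' 2 (C.even_card hfree)
  have hu₀1 : u₀ ≠ 1 := fun e => by simp [e] at hu₀
  let I : Type u := {v : G // orderOf v = 2}
  haveI := Fintype.ofFinite I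
  haveI := Fintype.ofFinite (Sylow p G)
  have hA : ¬ p ∣ Nat.card (centralizer ({u₀} : Set G)) :=
    C.prime_to_centralizer hfree hu₀1 (C.coprime_involution hfree hu₀)
  -- the number of involutions
  obtain ⟨P₁⟩ : Nonempty (Sylow p G) := inferInstance
  set n := Nat.card (P₁ : Subgroup G) with hn
  have hnI : n ∣ Nat.card I := by
    have e : Nat.card (G ⧸ centralizer ({u₀} : Set G)) = Nat.card I := by
      refine Nat.card_congr (Equiv.ofBijective (Quotient.lift
        (fun g : G => (⟨g * u₀ * g⁻¹, by rw [CfsgLib.Signalizer.orderOf_conj, hu₀]⟩ : I)) ?_) ⟨?_, ?_⟩)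
      · intro a b hab
        have h := QuotientGroup.leftRel_apply.1 hab
        rw [mem_centralizer_singleton_iff] at h
        refine Subtype.ext ?_
        show a * u₀ * a⁻¹ = b * u₀ * b⁻¹
        calc a * u₀ * a⁻¹ = a * (u₀ * (a⁻¹ * b)) * b⁻¹ := by group
          _ = a * (a⁻¹ * b * u₀) * b⁻¹ := by rw [h]
          _ = _ := by group
      · intro x y
        refine Quotient.inductionOn₂ x y fun a b e => Quotient.sound ?_
        refine QuotientGroup.leftRel_apply.2 (mem_centralizer_singleton_iff.2 ?_)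
        have e' : a * u₀ * a⁻¹ = b * u₀ * b⁻¹ := congrArg Subtype.val e
        calc a⁻¹ * b * u₀ = a⁻¹ * (b * u₀ * b⁻¹) * b := by group
          _ = a⁻¹ * (a * u₀ * a⁻¹) * b := by rw [e']
          _ = _ := by group
      · rintro ⟨v, hv⟩
        obtain ⟨g, hg⟩ := isConj_iff.1 (C.isConj_involution hfree hu₀ hv)
        exact ⟨Quotient.mk _ g, Subtype.ext hg⟩
    have hG : Nat.card G = Nat.card I * Nat.card (centralizer ({u₀} : Set G)) := by
      rw [← e]; exact Subgroup.card_eq_card_quotient_mul_card_subgroup _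
    refine Nat.Coprime.dvd_of_dvd_mul_right ?_ (hG ▸ Subgroup.card_subgroup_dvd_card _)
    obtain ⟨k, hk⟩ := IsPGroup.iff_card.1 P₁.2
    rw [hn, hk]
    exact (hp.out.coprime_iff_not_dvd.2 hA).pow_left k
  have hpn : p ∣ n := P₁.dvd_card_of_dvd_card C.dvd
  -- commuting pairs
  let F : I → Type u := fun u => {v : I // Commute (u : G) v}
  have hF : ∀ u : I, Nat.card (F u) = Nat.card (F ⟨u₀, hu₀⟩) := by
    intro u
    obtain ⟨g, hg⟩ := isConj_iff.1 (C.isConj_involution hfree u.2 hu₀)
    refine Nat.card_congr ((Equiv.subtypeEquiv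
      (⟨fun v => ⟨g * v * g⁻¹, by rw [CfsgLib.Signalizer.orderOf_conj, v.2]⟩,
        fun v => ⟨g⁻¹ * v * g, by
          have := CfsgLib.Signalizer.orderOf_conj g⁻¹ (v : G)
          rw [inv_inv] at this; rw [this, v.2]⟩,
        fun v => Subtype.ext (by simp [mul_assoc]),
        fun v => Subtype.ext (by simp [mul_assoc])⟩ : I ≃ I)) fun v => ?_)
    show Commute (u : G) v ↔ Commute u₀ (g * v * g⁻¹)
    rw [← hg, Commute.conj_iff]
  have hpF : p ∣ Nat.card (F ⟨u₀, hu₀⟩) := by
    -- an element of order `p` normalizing the centralizer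
    haveI : Fact (Nat.Prime 2) := ⟨Nat.prime_two⟩
    obtain ⟨S, hS⟩ := (IsPGroup.of_card (n := 1) (by rw [Nat.card_zpowers, hu₀, pow_one]) :
      IsPGroup 2 (zpowers u₀)).exists_le_sylow
    have huS : u₀ ∈ (S : Subgroup G) := hS (mem_zpowers u₀)
    have hSab : ∀ a ∈ (S : Subgroup G), ∀ b ∈ (S : Subgroup G), a * b = b * a := fun a ha b hb =>
      C.hyp.comm (fun h => by
        obtain ⟨k, hk⟩ := IsPGroup.iff_card.1 S.2
        rw [hk] at h
        exact C.odd ((Nat.prime_dvd_prime_iff_eq hp.out Nat.prime_two).1 (hp.out.dvd_of_dvd_pow h)))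
        ha hb
    obtain ⟨g, hg, hgc⟩ := C.burnside S (C.even_card hfree) hSab
    have hpN : p ∣ Nat.card (normalizer ((S : Subgroup G) : Set G)) := by
      by_contra hnd
      exact hgc (mem_centralizer_iff.2 fun a ha => (C.hyp.comm hnd hg (le_normalizer ha)).symm)
    obtain ⟨x, hx⟩ := exists_prime_orderOf_dvd_card' p hpN
    rw [← Subgroup.orderOf_coe] at hx
    have hxu : Commute u₀ (x * u₀ * (x : G)⁻¹) :=
      hSab u₀ huS _ ((mem_normalizer_iff.1 x.2 u₀).1 huS)
    have hxA : ∀ a : G, Commute u₀ a → Commute u₀ (x * a * (x : G)⁻¹) := by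
      intro a ha
      have h1 : x * a * (x : G)⁻¹ ∈ centralizer ({(x : G) * u₀ * (x : G)⁻¹} : Set G) :=
        mem_centralizer_singleton_iff.2 ((Commute.conj_iff (x : G)).2 ha).symm.eq
      exact C.ca hfree (fun e => hu₀1 (conj_eq_one_iff.1 e)) u₀
        (mem_centralizer_singleton_iff.2 hxu.eq) _ h1
    let σ : Equiv.Perm (F ⟨u₀, hu₀⟩) := Equiv.ofBijective
      (fun v => ⟨⟨x * v.1 * (x : G)⁻¹, by rw [CfsgLib.Signalizer.orderOf_conj]; exact v.1.2⟩,
        hxA _ v.2⟩) (Finite.injective_iff_bijective.1 fun v w e => by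
          refine Subtype.ext (Subtype.ext ?_)
          exact mul_left_cancel (mul_right_cancel (congrArg (fun z => ((z.1 : I) : G)) e)))
    have hσ : ∀ (k : ℕ) (v : F ⟨u₀, hu₀⟩),
        (((σ ^ k) v).1 : G) = (x : G) ^ k * v.1 * ((x : G) ^ k)⁻¹ := by
      intro k
      induction k with
      | zero => intro v; simp
      | succ k ih =>
        intro v
        rw [pow_succ', Equiv.Perm.mul_apply, pow_succ']
        show (x : G) * ((σ ^ k) v).1 * (x : G)⁻¹ = _
        rw [ih]; group
    haveI := Fintype.ofFinite (F ⟨u₀, hu₀⟩)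
    have h1 : σ ^ p ^ 1 = 1 := by
      refine Equiv.ext fun v => Subtype.ext (Subtype.ext ?_)
      rw [hσ, pow_one, ← hx, pow_orderOf_eq_one]
      simp
    have h2 := Equiv.Perm.card_compl_support_modEq h1
    have h3 : σ.supportᶜ = ∅ := by
      refine Finset.eq_empty_of_forall_notMem fun v hv => ?_
      rw [Finset.mem_compl, Equiv.Perm.mem_support, not_not] at hv
      have h4 : (x : G) * v.1 * (x : G)⁻¹ = v.1 := congrArg (fun z => ((z.1 : I) : G)) hv
      refine C.prime_to_centralizer hfree (g := (v.1 : G)) (fun e => ?_)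
        (C.coprime_involution hfree v.1.2) ?_
      · have := v.1.2; rw [e, orderOf_one] at this; omega
      · rw [← hx]
        exact Subgroup.orderOf_dvd_natCard _
          (mem_centralizer_singleton_iff.2 (mul_inv_eq_iff_eq_mul.1 h4))
    rw [h3, Finset.card_empty] at h2
    rw [Nat.card_eq_fintype_card]
    exact Nat.modEq_zero_iff_dvd.1 h2.symm
  -- noncommuting pairs
  let J : Sylow p G → Type u :=
    fun P => {w : G // orderOf w = 2 ∧ w ∈ normalizer ((P : Subgroup G) : Set G)}
  let T : Sylow p G → Type u := fun P => {c : (P : Subgroup G) // c ≠ 1}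
  let φ : (Σ P : Sylow p G, J P × T P) → {uv : I × I // ¬ Commute (uv.1 : G) uv.2} := fun z =>
    ⟨(⟨z.2.1.1, z.2.1.2.1⟩, ⟨z.2.1.1 * z.2.2.1, by
      have hinv := C.inverts hfree z.2.1.2.1 z.2.1.2.2 z.2.2.1.2
      refine CfsgLib.Signalizer.orderOf_eq_two_of ?_ ?_
      · intro e
        have h1 : z.2.1.1 ∈ ((z.1 : Sylow p G) : Subgroup G) := by
          rw [eq_inv_of_mul_eq_one_left e]; exact inv_mem z.2.2.1.2
        have h2 := eq_one_of_pGroup_coprime z.1.2 h1 (C.coprime_involution hfree z.2.1.2.1)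
        have h3 := z.2.1.2.1
        rw [h2, orderOf_one] at h3
        omega
      · rw [CfsgLib.Signalizer.involution_inv z.2.1.2.1] at hinv
        rw [← mul_assoc, hinv, inv_mul_cancel]⟩), by
      intro hcomm
      have h1 : Commute (z.2.1.1) ((z.2.2.1 : G)) := by
        have := (Commute.refl z.2.1.1).inv_right.mul_right hcomm
        simpa using this
      have h2 := eq_one_of_pGroup_coprime z.1.2 (C.mem_sylow_of_commute hfree z.2.2.1.2
        (fun e => z.2.2.2 (Subtype.ext e)) h1) (C.coprime_involution hfree z.2.1.2.1)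
      have h3 := z.2.1.2.1
      rw [h2, orderOf_one] at h3
      omega⟩
  have hφ : Function.Bijective φ := by
    constructor
    · rintro ⟨P, w, c⟩ ⟨Q, w', c'⟩ e
      have e1 : w.1 = w'.1 := congrArg (fun z => ((z.1.1 : I) : G)) e
      have e2 : w.1 * (c.1 : G) = w'.1 * c'.1 := congrArg (fun z => ((z.1.2 : I) : G)) e
      rw [e1] at e2
      have e3 : (c.1 : G) = c'.1 := mul_left_cancel e2
      obtain rfl := C.sylow_eq c.1.2 (e3 ▸ c'.1.2) fun h => c.2 (Subtype.ext h)
      obtain rfl : w = w' := Subtype.ext e1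
      obtain rfl : c = c' := Subtype.ext (Subtype.ext e3)
      rfl
    · rintro ⟨⟨u, v⟩, huv⟩
      obtain ⟨P, hP, h1, huN⟩ := C.exists_sylow_of_noncommute hfree u.2 v.2 huv
      refine ⟨⟨P, ⟨u.1, u.2, huN⟩, ⟨⟨_, hP⟩, fun e => h1 (congrArg Subtype.val e)⟩⟩, ?_⟩
      refine Subtype.ext (Prod.ext rfl (Subtype.ext ?_))
      show (u : G) * ((u : G) * v) = v
      rw [← mul_assoc, CfsgLib.Signalizer.involution_sq u.2, one_mul]
  have hPn : ∀ P : Sylow p G, Nat.card (P : Subgroup G) = n := fun P =>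
    Nat.card_congr (P.equiv P₁).toEquiv
  have hT : ∀ P : Sylow p G, Nat.card (T P) = n - 1 := fun P => by
    haveI := Fintype.ofFinite (P : Subgroup G)
    rw [Nat.card_eq_fintype_card, Fintype.card_subtype_compl, Fintype.card_subtype_eq,
      ← Nat.card_eq_fintype_card, hPn]
  have hJ : ∀ P : Sylow p G, Nat.card (J P) = n := by
    intro P
    obtain ⟨g, hg⟩ := C.exists_noncommute hfree hu₀1 hu₀1
    obtain ⟨Q, -, -, hQN⟩ := C.exists_sylow_of_noncommute hfree
      (u := g * u₀ * g⁻¹) (by rw [CfsgLib.Signalizer.orderOf_conj, hu₀]) hu₀ hg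
    obtain ⟨h, hh⟩ := MulAction.exists_smul_eq G Q P
    set w := h * (g * u₀ * g⁻¹) * h⁻¹ with hw
    have hw2 : orderOf w = 2 := by
      rw [hw, CfsgLib.Signalizer.orderOf_conj, CfsgLib.Signalizer.orderOf_conj, hu₀]
    have hwN : w ∈ normalizer ((P : Subgroup G) : Set G) := by
      refine Sylow.smul_eq_iff_mem_normalizer.1 ?_
      rw [hw, ← hh, ← mul_smul, inv_mul_cancel_right, mul_smul,
        Sylow.smul_eq_iff_mem_normalizer.2 hQN]
    rw [← hPn P]
    refine (Nat.card_congr (Equiv.ofBijective (fun a : (P : Subgroup G) => (⟨w * a, ?_, ?_⟩ : J P))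
      ⟨fun a b e => Subtype.ext (mul_left_cancel (congrArg Subtype.val e)), ?_⟩)).symm
    · refine CfsgLib.Signalizer.orderOf_eq_two_of ?_ ?_
      · intro e
        have h2 := eq_one_of_pGroup_coprime P.2
          (show w ∈ (P : Subgroup G) by rw [eq_inv_of_mul_eq_one_left e]; exact inv_mem a.2)
          (C.coprime_involution hfree hw2)
        rw [h2, orderOf_one] at hw2
        omega
      · have hinv := C.inverts hfree hw2 hwN a.2
        rw [CfsgLib.Signalizer.involution_inv hw2] at hinv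
        rw [← mul_assoc, hinv, inv_mul_cancel]
    · exact mul_mem hwN (le_normalizer a.2)
    · rintro ⟨w', hw', hw'N⟩
      haveI : Nontrivial (P : Subgroup G) := (nontrivial_iff_ne_bot _).2 (C.sylow_ne_bot P)
      obtain ⟨⟨z, hz⟩, hz1'⟩ := exists_ne (1 : (P : Subgroup G))
      have hz1 : z ≠ 1 := fun e => hz1' (Subtype.ext e)
      have hwz := fun {a : G} (ha : a ∈ (P : Subgroup G)) => C.inverts hfree hw2 hwN ha
      have hw'z := C.inverts hfree hw' hw'N hz
      refine ⟨⟨w * w', C.mem_sylow_of_commute hfree hz hz1 ?_⟩, Subtype.ext ?_⟩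
      · show w * w' * z = z * (w * w')
        calc w * w' * z = w * (w' * z * w'⁻¹) * w⁻¹ * (w * w') := by group
          _ = _ := by rw [hw'z, hwz (inv_mem hz), inv_inv]
      · show w * (w * w') = w'
        rw [← mul_assoc, CfsgLib.Signalizer.involution_sq hw2, one_mul]
  have hNC : Nat.card {uv : I × I // ¬ Commute (uv.1 : G) uv.2} =
      Nat.card (Sylow p G) * (n * (n - 1)) := by
    rw [← Nat.card_congr (Equiv.ofBijective φ hφ), Nat.card_sigma,
      Finset.sum_congr rfl fun P _ => show Nat.card (J P × T P) = n * (n - 1) by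
        rw [Nat.card_prod, hJ, hT],
      Finset.sum_const, Finset.card_univ, smul_eq_mul, Nat.card_eq_fintype_card]
  have hCC : Nat.card {uv : I × I // Commute (uv.1 : G) uv.2} =
      Nat.card I * Nat.card (F ⟨u₀, hu₀⟩) := by
    rw [Nat.card_congr (Equiv.subtypeProdEquivSigmaSubtype fun a b : I => Commute (a : G) b),
      Nat.card_sigma, Finset.sum_congr rfl fun u _ => hF u, Finset.sum_const, Finset.card_univ,
      smul_eq_mul, ← Nat.card_eq_fintype_card]
  have htot : Nat.card I * Nat.card I = Nat.card I * Nat.card (F ⟨u₀, hu₀⟩) +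
      Nat.card (Sylow p G) * (n * (n - 1)) := by
    rw [← hNC, ← hCC, ← Nat.card_sum,
      Nat.card_congr (Equiv.sumCompl fun uv : I × I => Commute (uv.1 : G) uv.2), Nat.card_prod]
  have hdvd : n * p ∣ Nat.card (Sylow p G) * (n * (n - 1)) :=
    (Nat.dvd_add_right (Nat.mul_dvd_mul hnI hpF)).1
      (htot ▸ Nat.mul_dvd_mul hnI (hpn.trans hnI))
  rw [mul_left_comm, Nat.mul_dvd_mul_iff_left (show 0 < n from Nat.card_pos)] at hdvd
  rcases hp.out.dvd_mul.1 hdvd with h | h
  · exact not_dvd_card_sylow p G h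
  · have h1 : 1 ≤ n := Nat.card_pos
    have := Nat.dvd_sub hpn h
    rw [Nat.sub_sub_self h1] at this
    exact hp.out.ne_one (Nat.dvd_one.1 this)

end

end CfsgLib.Orders.CyclicAbelian
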