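import Cfsg.Agent.Lib.Orders.CyclicAbelianComplement.Simple

/-!
# The case that a `p'`-element centralizes a Sylow `p`-subgroup: local structure

Then `p = 3`, the normalizer of a Sylow `3`-subgroup is the centralizer of an involution and its
complement is a self-centralizing four-group which is a Sylow `2`-subgroup.
-/

set_option autoImplicit false
set_option linter.all false

namespace CfsgLib.Orders.CyclicAbelian

open Cfsg Subgroup
open scoped Classical

universe u

variable {G : Type u} [Group G] [Finite G] {p : ℕ} [hp : Fact p.Prime]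

/-- The local configuration at a Sylow subgroup `P`. -/
structure KleinData (P : Sylow p G) (H : Subgroup G) (y : G) : Prop where
  prime_eq : p = 3
  isCompl : IsCompl P H
  card : Nat.card H = 4
  sq : ∀ a ∈ H, a * a = 1
  mem : y ∈ H
  order : orderOf y = 2
  centralizes : ∀ a ∈ (P : Subgroup G), Commute y a
  centralizer_eq : centralizer ({y} : Set G) = normalizer ((P : Subgroup G) : Set G)
  unique : ∀ w ∈ H, (∀ a ∈ (P : Subgroup G), Commute w a) → w = 1 ∨ w = y
  self : ∀ g : G, (∀ a ∈ H, Commute g a) → g ∈ H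
  conj : ∀ w ∈ H, w ≠ 1 → IsConj y w

omit [Finite G] hp in
theorem units_unique {n : ℕ} (h : n = 3) : ∀ u v : (ZMod n)ˣ, u ≠ 1 → v ≠ 1 → u = v := by
  subst h
  decide

variable (C : Simple p G)
include C

/-- The configuration exists at a Sylow subgroup centralized by an element of prime order. -/
theorem Simple.exists_kleinData {P : Sylow p G} {y : G} {q : ℕ} [hq : Fact q.Prime]
    (hy : orderOf y = q) (hqp : q ≠ p) (hyP : ∀ a ∈ (P : Subgroup G), Commute y a) :
    ∃ (H : Subgroup G) (y' : G), KleinData P H y' := by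
  haveI := C.hyp.cyclic P
  set N := normalizer ((P : Subgroup G) : Set G) with hN
  have hyc : (orderOf y).Coprime p := by
    rw [hy]; exact (Nat.coprime_primes hq.out hp.out).2 hqp
  have hy1 : y ≠ 1 := fun e => hq.out.ne_one (by rw [← hy, e, orderOf_one])
  have hCy : centralizer ({y} : Set G) = N := C.centralizer_eq hyc hyP hy1
  have hqG : q ∣ Nat.card G := hy ▸ orderOf_dvd_natCard y
  obtain ⟨Q, hQy⟩ := exists_sylow_mem (p := q)
    (IsPGroup.of_card (n := 1) (by rw [Nat.card_zpowers, hy, pow_one]) : IsPGroup q (zpowers y))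
  have hQp : ¬ p ∣ Nat.card (Q : Subgroup G) := fun h => by
    obtain ⟨k, hk⟩ := IsPGroup.iff_card.1 Q.2
    rw [hk] at h
    exact hqp ((Nat.prime_dvd_prime_iff_eq hp.out hq.out).1 (hp.out.dvd_of_dvd_pow h)).symm
  have hQab : ∀ a ∈ (Q : Subgroup G), ∀ b ∈ (Q : Subgroup G), a * b = b * a :=
    fun a ha b hb => C.hyp.comm hQp ha hb
  have hQN : (Q : Subgroup G) ≤ N := fun a ha =>
    hCy ▸ mem_centralizer_singleton_iff.2 (hQab a ha y hQy)
  obtain ⟨g₀, hg₀, hg₀c⟩ := C.burnside Q hqG hQab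
  obtain ⟨x₁, hx₁, hx₁1⟩ : ∃ x ∈ (P : Subgroup G), x ≠ 1 := by
    by_contra h
    push Not at h
    exact C.sylow_ne_bot P ((eq_bot_iff_forall _).2 h)
  -- an element of `Q` acting nontrivially
  obtain ⟨z, hzQ, a₀, ha₀, hza⟩ :
      ∃ z ∈ (Q : Subgroup G), ∃ a ∈ (P : Subgroup G), ¬ Commute z a := by
    by_contra hcon
    push Not at hcon
    obtain ⟨H, hH⟩ := exists_isCompl P
    have hQH : (Q : Subgroup G) ≤ H := fun a ha =>
      hH.mem_of_centralizes C.hyp (coprime_of_mem hQp ha) (hcon a ha)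
    refine hg₀c (mem_centralizer_iff.2 fun a ha => ?_)
    have hgN : g₀ ∈ N := by
      set y₂ := g₀ * y * g₀⁻¹ with hy₂
      have hy₂Q : y₂ ∈ (Q : Subgroup G) := (mem_normalizer_iff.1 hg₀ y).1 hQy
      have hy₂1 : y₂ ≠ 1 := fun e => hy1 (conj_eq_one_iff.1 e)
      have hC₂ : centralizer ({y₂} : Set G) = N :=
        C.centralizer_eq (coprime_of_mem hQp hy₂Q) (hcon _ hy₂Q) hy₂1
      refine C.mem_normalizer hx₁ hx₁1 (mem_of_pElement ?_ ?_)
      · show g₀ * x₁ * g₀⁻¹ ∈ N
        rw [← hC₂]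
        exact mem_centralizer_singleton_iff.2 ((Commute.conj_iff g₀).2 (hyP x₁ hx₁)).symm.eq
      · rw [show g₀ * x₁ * g₀⁻¹ = (MulAut.conj g₀).toMonoidHom x₁ from rfl,
          ← MonoidHom.map_zpowers]
        exact (P.2.to_le ((zpowers_le (H := (P : Subgroup G))).2 hx₁)).map _
    obtain ⟨π, hπ, h, hh, rfl⟩ := hH.decomp g₀ hgN
    exact (((hcon a ha π hπ : Commute a π)).mul_right
      (C.hyp.comm hH.prime_to (hQH ha) hh)).eq
  have hzc : (orderOf z).Coprime p := coprime_of_mem hQp hzQ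
  -- a complement containing `Q`
  obtain ⟨H, hH, hQH⟩ : ∃ H : Subgroup G, IsCompl P H ∧ (Q : Subgroup G) ≤ H := by
    obtain ⟨H₁, hH₁⟩ := exists_isCompl P
    obtain ⟨π, hπ, h, hh, hz⟩ := hH₁.decomp z (hQN hzQ)
    have hne : ¬ Commute h a₀ := fun e => hza (hz ▸ (C.hyp.commP P hπ ha₀).mul_left e)
    obtain ⟨b, hb, hb'⟩ := exists_commutator P.2 (hH₁.le hh) (coprime_of_mem hH₁.prime_to hh) ha₀
      hne hπ
    refine ⟨_, hH₁.conj hb, fun w hw => ?_⟩
    have hzH : z ∈ H₁.map (MulAut.conj b).toMonoidHom := by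
      refine ⟨h, hh, ?_⟩
      show b * h * b⁻¹ = z
      rw [hz, ← hb', inv_mul_cancel_right]
    obtain ⟨π', hπ', h', hh', rfl⟩ := (hH₁.conj hb).decomp w (hQN hw)
    suffices π' = 1 by rwa [this, one_mul]
    by_contra hπ1
    have hcz : Commute z π' := by
      have h1 : Commute z (π' * h') := hQab z hzQ _ hw
      have h2 : Commute z h' := C.hyp.comm (hH₁.conj hb).prime_to hzH hh'
      simpa using h1.mul_right h2.inv_right
    exact hza (C.centralizes hπ' hπ1 hzc hcz ha₀)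
  have hcH : ∀ a ∈ H, ∀ b ∈ H, Commute a b := fun a ha b hb => C.hyp.comm hH.prime_to ha hb
  have hHc : ∀ a ∈ H, (orderOf a).Coprime p := fun a ha => coprime_of_mem hH.prime_to ha
  have hyH : y ∈ H := hQH hQy
  have hCQ : ∀ g : G, (∀ a ∈ (Q : Subgroup G), Commute g a) → g ∈ H := by
    intro g hg
    obtain ⟨π, hπ, h, hh, rfl⟩ := hH.decomp g
      (show g ∈ N from hCy ▸ mem_centralizer_singleton_iff.2 (hg y hQy).eq)
    suffices π = 1 by rwa [this, one_mul]
    by_contra hπ1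
    have hcz : Commute z π := by
      have h1 : Commute z (π * h) := (hg z hzQ).symm
      simpa using h1.mul_right (hcH z (hQH hzQ) h hh).inv_right
    exact hza (C.centralizes hπ hπ1 hzc hcz ha₀)
  -- a `p`-element normalizing `H`
  have hpN : p ∣ Nat.card (normalizer ((Q : Subgroup G) : Set G)) := by
    by_contra hnd
    exact hg₀c (mem_centralizer_iff.2 fun a ha => (C.hyp.comm hnd hg₀ (le_normalizer ha)).symm)
  obtain ⟨x', hx'⟩ := exists_prime_orderOf_dvd_card' p hpN
  rw [← Subgroup.orderOf_coe] at hx'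
  set x : G := (x' : G) with hxdef
  have hxQ : x ∈ normalizer ((Q : Subgroup G) : Set G) := x'.2
  have hxH : ∀ a ∈ H, x * a * x⁻¹ ∈ H := by
    intro a ha
    refine hCQ _ fun b hb => ?_
    have h1 : x⁻¹ * b * x ∈ (Q : Subgroup G) := (mem_normalizer_iff''.1 hxQ b).1 hb
    have h2 := (Commute.conj_iff x).2 (hcH a ha _ (hQH h1))
    simpa [mul_assoc] using h2
  have hxpg : IsPGroup p (zpowers x) :=
    IsPGroup.of_card (n := 1) (by rw [Nat.card_zpowers, hx', pow_one])
  have hx1 : x ≠ 1 := fun e => hp.out.ne_one (by rw [← hx', e, orderOf_one])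
  have hnotcent : ¬ ∀ a ∈ H, Commute x a := fun h => by
    have hxH' : x ∈ H := hCQ x fun a ha => h a (hQH ha)
    have := hHc x hxH'
    rw [hx', Nat.coprime_self] at this
    exact hp.out.ne_one this
  -- elements of a common `p`-group and `H`
  have hkill : ∀ S : Sylow p G, x ∈ (S : Subgroup G) →
      (∀ a ∈ H, a ∈ normalizer ((S : Subgroup G) : Set G)) → False := by
    intro S hxS hHS
    refine hnotcent fun a ha => ?_
    have h1 : x * a * x⁻¹ * a⁻¹ ∈ (S : Subgroup G) := by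
      rw [show x * a * x⁻¹ * a⁻¹ = x * (a * x⁻¹ * a⁻¹) by group]
      exact mul_mem hxS ((mem_normalizer_iff.1 (hHS a ha) _).1 (inv_mem hxS))
    have h2 : x * a * x⁻¹ * a⁻¹ ∈ H := mul_mem (hxH a ha) (inv_mem ha)
    exact commutatorElement_eq_one_iff_commute.1
      ((commutatorElement_def x a).trans (eq_one_of_pGroup_coprime S.2 h1 (hHc _ h2)))
  have hfix : ∀ h ∈ H, Commute h x → h = 1 := by
    intro h hh hhx
    by_contra h1
    obtain ⟨S, hxS⟩ := exists_sylow_mem hxpg
    have hcS : ∀ a ∈ (S : Subgroup G), Commute h a := fun a ha =>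
      C.centralizes hxS hx1 (hHc h hh) hhx ha
    refine hkill S hxS fun a ha => ?_
    rw [← C.centralizer_eq (hHc h hh) hcS h1]
    exact mem_centralizer_singleton_iff.2 (hcH a ha h hh).eq
  have hinter : ∀ h ∈ H, (∀ a ∈ (P : Subgroup G), Commute h a) →
      (∀ a ∈ (P : Subgroup G), Commute (x⁻¹ * h * x) a) → h = 1 := by
    intro h hh hhP hhP'
    by_contra h1
    have hC := C.centralizer_eq (hHc h hh) hhP h1
    have hxN : x ∈ N := by
      refine C.mem_normalizer hx₁ hx₁1 (mem_of_pElement ?_ ?_)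
      · rw [← hC]
        have h2 := (Commute.conj_iff x).2 (hhP' x₁ hx₁)
        rw [show x * (x⁻¹ * h * x) * x⁻¹ = h by group] at h2
        exact mem_centralizer_singleton_iff.2 h2.symm.eq
      · rw [show x * x₁ * x⁻¹ = (MulAut.conj x).toMonoidHom x₁ from rfl,
          ← MonoidHom.map_zpowers]
        exact (P.2.to_le ((zpowers_le (H := (P : Subgroup G))).2 hx₁)).map _
    exact hkill P (mem_of_pElement hxN hxpg) fun a ha => hH.le ha
  -- the embedding of `H`
  obtain ⟨z₀', hz₀'⟩ := exists_prime_orderOf_dvd_card' p (P.dvd_card_of_dvd_card C.dvd)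
  set z₀ : G := (z₀' : G)
  have hz₀P : z₀ ∈ (P : Subgroup G) := z₀'.2
  rw [← Subgroup.orderOf_coe] at hz₀'
  have hz₀1 : z₀ ≠ 1 := fun e => hp.out.ne_one (by rw [← hz₀', show (z₀' : G) = 1 from e, orderOf_one])
  have hHz : H ≤ normalizer (zpowers z₀ : Set G) := by
    intro a ha
    have hmap : (zpowers z₀).map (MulAut.conj a).toMonoidHom ≤ (P : Subgroup G) := by
      rw [MonoidHom.map_zpowers, zpowers_le]
      exact (mem_normalizer_iff.1 (hH.le ha) z₀).1 hz₀P
    have e : (zpowers z₀).map (MulAut.conj a).toMonoidHom = zpowers z₀ :=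
      eq_of_card_eq hmap ((zpowers_le (H := (P : Subgroup G))).2 hz₀P)
        (Subgroup.card_map_of_injective (MulAut.conj a).injective)
    refine mem_normalizer_iff.2 fun t => ⟨fun ht => ?_, fun ht => ?_⟩
    · rw [← e]; exact ⟨t, ht, rfl⟩
    · rw [← e] at ht
      obtain ⟨t', ht', hte⟩ := ht
      rwa [← (MulAut.conj a).injective hte]
  let θ : MulAut (zpowers z₀) ≃* (ZMod p)ˣ :=
    (IsCyclic.mulAutMulEquiv (zpowers z₀)).trans
      (Units.mapEquiv (ZMod.ringEquivCongr
        (show Nat.card (zpowers z₀) = p by rw [Nat.card_zpowers, hz₀'])).toMulEquiv)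
  let χ : H →* (ZMod p)ˣ :=
    θ.toMonoidHom.comp ((zpowers z₀).normalizerMonoidHom.comp (Subgroup.inclusion hHz))
  have hχ : ∀ a : H, χ a = 1 ↔ ∀ b ∈ (P : Subgroup G), Commute (a : G) b := by
    intro a
    have h1 : χ a = 1 ↔ (zpowers z₀).normalizerMonoidHom (Subgroup.inclusion hHz a) = 1 := by
      simp only [χ, MonoidHom.comp_apply, MulEquiv.coe_toMonoidHom, MulEquiv.map_eq_one_iff]
    rw [h1, ← MonoidHom.mem_ker, normalizerMonoidHom_ker, mem_subgroupOf, coe_inclusion,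
      mem_centralizer_iff]
    constructor
    · intro h b hb
      exact C.centralizes hz₀P hz₀1 (hHc a a.2) (h z₀ (mem_zpowers z₀)).symm hb
    · intro h b hb
      exact (h b ((zpowers_le (H := (P : Subgroup G))).2 hz₀P hb)).symm.eq
  have hxH' : ∀ a ∈ H, x⁻¹ * a * x ∈ H := by
    intro a ha
    have hle : H.map (MulAut.conj x).toMonoidHom ≤ H := by
      rintro _ ⟨b, hb, rfl⟩
      exact hxH b hb
    have he := Subgroup.eq_of_le_of_card_ge hle
      (Subgroup.card_map_of_injective (MulAut.conj x).injective).ge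
    rw [← he] at ha
    obtain ⟨b, hb, rfl⟩ := ha
    show x⁻¹ * (x * b * x⁻¹) * x ∈ H
    simpa [mul_assoc] using hb
  let cj : H →* H :=
    { toFun := fun a => ⟨x⁻¹ * a * x, hxH' a a.2⟩
      map_one' := Subtype.ext (by simp)
      map_mul' := fun a b => Subtype.ext (by simp [mul_assoc]) }
  let ψ : H →* (ZMod p)ˣ × (ZMod p)ˣ := χ.prod (χ.comp cj)
  have hψ : Function.Injective ψ := by
    rw [injective_iff_map_eq_one]
    intro a ha
    have h1 : χ a = 1 := congrArg Prod.fst ha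
    have h2 : χ (cj a) = 1 := congrArg Prod.snd ha
    exact Subtype.ext (hinter a a.2 ((hχ a).1 h1) ((hχ (cj a)).1 h2))
  have hqp1 : q ∣ p - 1 := by
    have h1 : χ ⟨y, hyH⟩ = 1 := (hχ _).2 hyP
    have h2 : orderOf (ψ ⟨y, hyH⟩) = q := by
      rw [orderOf_injective ψ hψ, Subgroup.orderOf_mk, hy]
    have h3 : ψ ⟨y, hyH⟩ = (1, χ (cj ⟨y, hyH⟩)) := Prod.ext h1 rfl
    rw [h3, Prod.orderOf_mk, orderOf_one, Nat.lcm_one_left] at h2
    rw [← h2, ← ZMod.card_units p, ← Nat.card_eq_fintype_card]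
    exact orderOf_dvd_natCard _
  -- elements of order dividing `q`
  let T : Subgroup G :=
    { carrier := {a | a ∈ H ∧ a ^ q = 1}
      one_mem' := ⟨one_mem H, one_pow q⟩
      mul_mem' := fun {a b} ha hb => ⟨mul_mem ha.1 hb.1, by
        rw [(hcH a ha.1 b hb.1).mul_pow, ha.2, hb.2, one_mul]⟩
      inv_mem' := fun {a} ha => ⟨inv_mem ha.1, by rw [inv_pow, ha.2, inv_one]⟩ }
  have hT : ∀ a, a ∈ T ↔ a ∈ H ∧ a ^ q = 1 := fun a => Iff.rfl
  have hTle : Nat.card T ≤ q * q := by
    haveI : NeZero q := ⟨hq.out.pos.ne'⟩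
    have hmem : ∀ a : T, ψ ⟨a, a.2.1⟩ ∈
        (rootsOfUnity q (ZMod p)).prod (rootsOfUnity q (ZMod p)) := by
      intro a
      have : ψ ⟨a, a.2.1⟩ ^ q = 1 := by
        rw [← map_pow, show (⟨a, a.2.1⟩ : H) ^ q = 1 from Subtype.ext a.2.2, map_one]
      exact ⟨(mem_rootsOfUnity _ _).2 (congrArg Prod.fst this),
        (mem_rootsOfUnity _ _).2 (congrArg Prod.snd this)⟩
    refine le_trans (Nat.card_le_card_of_injective (fun a : T => (⟨_, hmem a⟩ :
      ((rootsOfUnity q (ZMod p)).prod (rootsOfUnity q (ZMod p))))) fun a b e =>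
        Subtype.ext (congrArg (fun z : H => (z : G)) (hψ (congrArg Subtype.val e)))) ?_
    rw [Nat.card_congr (Subgroup.prodEquiv _ _).toEquiv, Nat.card_prod]
    exact Nat.mul_le_mul (card_rootsOfUnity _ _) (card_rootsOfUnity _ _)
  have hTmod : 1 ≡ Nat.card T [MOD p] := by
    haveI := Fintype.ofFinite T
    let σ : Equiv.Perm T := Equiv.ofBijective
      (fun a => ⟨x * a * x⁻¹, hxH a a.2.1, by
        rw [conj_pow, (a.2.2 : (a : G) ^ q = 1), mul_one, mul_inv_cancel]⟩)
      (Finite.injective_iff_bijective.1 fun a b e =>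
        Subtype.ext (mul_left_cancel (mul_right_cancel (congrArg Subtype.val e))))
    have hσ : ∀ (k : ℕ) (a : T), ((σ ^ k) a : G) = x ^ k * a * (x ^ k)⁻¹ := by
      intro k
      induction k with
      | zero => intro a; simp
      | succ k ih =>
        intro a
        rw [pow_succ', Equiv.Perm.mul_apply, pow_succ']
        show x * ((σ ^ k) a : G) * x⁻¹ = _
        rw [ih]; group
    have h1 : σ ^ p ^ 1 = 1 := by
      refine Equiv.ext fun a => Subtype.ext ?_
      rw [hσ, pow_one, ← hx', pow_orderOf_eq_one]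
      simp
    have h2 := Equiv.Perm.card_compl_support_modEq h1
    have h3 : σ.supportᶜ = {1} := by
      ext a
      rw [Finset.mem_compl, Equiv.Perm.mem_support, not_not, Finset.mem_singleton]
      refine ⟨fun h => Subtype.ext (hfix a a.2.1 ?_), fun h => ?_⟩
      · exact (mul_inv_eq_iff_eq_mul.1 (congrArg Subtype.val h) : x * (a : G) = a * x).symm
      · rw [h]; exact Subtype.ext (by show x * ((1 : T) : G) * x⁻¹ = 1; simp)
    rw [h3, Finset.card_singleton] at h2
    rwa [Nat.card_eq_fintype_card]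
  obtain ⟨j, hj⟩ := IsPGroup.iff_card.1
    (fun a : T => ⟨1, Subtype.ext (by rw [pow_one]; exact a.2.2)⟩ : IsPGroup q T)
  have hj0 : j ≠ 0 := by
    rintro rfl
    rw [pow_zero, Subgroup.card_eq_one] at hj
    have hyT : y ∈ T := ⟨hyH, hy ▸ pow_orderOf_eq_one y⟩
    rw [hj, mem_bot] at hyT
    exact hy1 hyT
  have hj2 : j ≤ 2 :=
    (Nat.pow_le_pow_iff_right hq.out.one_lt).1 (by rw [← hj, pow_two]; exact hTle)
  have hq2 := hq.out.two_le
  have hp3 := hp.out.two_le
  have hqlt : q ≤ p - 1 := Nat.le_of_dvd (by omega) hqp1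
  have hjeq : j = 2 := by
    by_contra h
    have hj1 : j = 1 := by omega
    rw [hj, hj1, pow_one] at hTmod
    have := Nat.le_of_dvd (by omega) ((Nat.modEq_iff_dvd' (by omega)).1 hTmod)
    omega
  rw [hjeq] at hj
  have hpq : p = q + 1 := by
    have h1 : p ∣ q ^ 2 - 1 :=
      (Nat.modEq_iff_dvd' (Nat.one_le_pow _ _ (by omega))).1 (hj ▸ hTmod)
    rw [show q ^ 2 - 1 = (q + 1) * (q - 1) by rw [← Nat.sq_sub_sq, one_pow]] at h1
    rcases hp.out.dvd_mul.1 h1 with h | h
    · have := Nat.le_of_dvd (by omega) h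
      omega
    · have := Nat.le_of_dvd (by omega) h
      omega
  have hqeq : q = 2 := by
    rcases hq.out.eq_two_or_odd with h | h
    · exact h
    · have hpe : 2 ∣ p := ⟨(q + 1) / 2, by omega⟩
      exact absurd ((Nat.prime_dvd_prime_iff_eq Nat.prime_two hp.out).1 hpe).symm C.odd
  have hp3' : p = 3 := by omega
  subst hqeq
  -- the group `H`
  have hcard : Nat.card H = 4 := by
    refine le_antisymm ?_ ?_
    · refine le_trans (Nat.card_le_card_of_injective ψ hψ) ?_
      rw [Nat.card_prod, Nat.card_eq_fintype_card, ZMod.card_units, hp3']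
    · rw [show 4 = Nat.card T by rw [hj]; norm_num]
      exact Subgroup.card_le_of_le (fun a ha => ha.1)
  have hTH : T = H := Subgroup.eq_of_le_of_card_ge (fun a ha => ha.1) (by rw [hcard, hj]; norm_num)
  have hsq : ∀ a ∈ H, a * a = 1 := by
    intro a ha
    rw [← hTH] at ha
    rw [← pow_two]; exact ha.2
  have huniq : ∀ w ∈ H, (∀ a ∈ (P : Subgroup G), Commute w a) → w = 1 ∨ w = y := by
    intro w hw hwP
    by_contra hne
    push Not at hne
    have e : ∀ a : H, χ a = 1 → (a : G) ≠ 1 → χ (cj a) ≠ 1 := fun a ha1 ha hc =>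
      ha (hinter a a.2 ((hχ a).1 ha1) ((hχ (cj a)).1 hc))
    have hU : ∀ u v : (ZMod p)ˣ, u ≠ 1 → v ≠ 1 → u = v := units_unique hp3'
    have h1 : χ ⟨w, hw⟩ = 1 := (hχ _).2 hwP
    have h2 : χ ⟨y, hyH⟩ = 1 := (hχ _).2 hyP
    have h3 : ψ ⟨w, hw⟩ = ψ ⟨y, hyH⟩ :=
      Prod.ext (h1.trans h2.symm) (hU _ _ (e _ h1 hne.1) (e _ h2 hy1))
    exact hne.2 (Subtype.ext_iff.1 (hψ h3))
  refine ⟨H, y, hp3', hH, hcard, hsq, hyH, hy, hyP, hCy, huniq,
    fun g hg => hCQ g fun a ha => hg a (hQH ha), ?_⟩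
  intro w hw hw1
  -- `x` permutes the three involutions
  set y₁ := x * y * x⁻¹ with hy₁
  set y₂ := x * y₁ * x⁻¹ with hy₂
  have hm1 : y₁ ∈ H := hxH y hyH
  have hm2 : y₂ ∈ H := hxH _ hm1
  have hne1 : y₁ ≠ y := fun e => hy1 (hfix y hyH (mul_inv_eq_iff_eq_mul.1 e).symm)
  have hne2 : y₂ ≠ y₁ := fun e => hne1 (mul_left_cancel (mul_right_cancel e))
  have hne3 : y₂ ≠ y := by
    intro e
    refine hy1 (hfix y hyH ?_)
    have h2 : Commute (x ^ 2) y := by
      show x ^ 2 * y = y * x ^ 2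
      have : x ^ 2 * y * (x ^ 2)⁻¹ = y := by
        calc x ^ 2 * y * (x ^ 2)⁻¹ = y₂ := by rw [hy₂, hy₁, pow_two]; group
          _ = y := e
      exact mul_inv_eq_iff_eq_mul.1 this
    obtain ⟨k, hk⟩ := mem_zpowers_iff.1 ((mem_zpowers_pow_iff (g := x) (k := 2)).2
      (by rw [hx', hp3']; norm_num))
    exact (hk ▸ h2.zpow_left k : Commute x y).symm
  haveI := Fintype.ofFinite H
  have hsub : ({1, ⟨y, hyH⟩, ⟨y₁, hm1⟩, ⟨y₂, hm2⟩} : Finset H) = Finset.univ := by
    refine Finset.eq_univ_of_card _ ?_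
    have hy10 : y₁ ≠ 1 := fun e => hy1 (conj_eq_one_iff.1 e)
    have hy20 : y₂ ≠ 1 := fun e => hy10 (conj_eq_one_iff.1 e)
    rw [← Nat.card_eq_fintype_card, hcard]
    simp [Subtype.ext_iff, Ne.symm hy1, Ne.symm hy10, Ne.symm hy20, Ne.symm hne1, Ne.symm hne2,
      Ne.symm hne3]
  have hmem := hsub.symm ▸ Finset.mem_univ (⟨w, hw⟩ : H)
  simp only [Finset.mem_insert, Finset.mem_singleton, Subtype.ext_iff, OneMemClass.coe_one] at hmem
  rcases hmem with e | e | e | e
  · exact absurd e hw1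
  · exact e ▸ IsConj.refl y
  · exact e ▸ isConj_iff.2 ⟨x, rfl⟩
  · exact e ▸ isConj_iff.2 ⟨x * x, by rw [hy₂, hy₁]; group⟩

/-- If some Sylow subgroup is centralized by a nontrivial `p'`-element, so is every one, by an
element of prime order, and the configuration holds at each. -/
theorem Simple.forall_kleinData {P₀ : Sylow p G} {g : G} (hg : (orderOf g).Coprime p)
    (hg1 : g ≠ 1) (hgP : ∀ a ∈ (P₀ : Subgroup G), Commute g a) (P : Sylow p G) :
    ∃ (H : Subgroup G) (y : G), KleinData P H y := by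
  obtain ⟨q, hq, m, hm⟩ := Nat.exists_prime_and_dvd (fun e => hg1 (orderOf_eq_one_iff.1 e))
  haveI : Fact q.Prime := ⟨hq⟩
  obtain ⟨h, hh⟩ := MulAction.exists_smul_eq G P₀ P
  refine C.exists_kleinData (y := h * g ^ m * h⁻¹) (q := q) ?_ ?_ ?_
  · rw [CfsgLib.Signalizer.orderOf_conj, orderOf_pow, Nat.gcd_eq_right ⟨q, by rw [hm]; ring⟩, hm,
      Nat.mul_div_cancel _ (Nat.pos_of_ne_zero fun e => (orderOf_pos g).ne' (by rw [hm, e, mul_zero]))]
  · rintro rfl
    exact hp.out.ne_one (Nat.eq_one_of_dvd_coprimes hg ⟨m, hm⟩ dvd_rfl)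
  · intro a ha
    rw [← hh, Sylow.coe_subgroup_smul] at ha
    obtain ⟨b, hb, rfl⟩ := ha
    exact (Commute.conj_iff h).2 ((hgP b hb).pow_left m)

end CfsgLib.Orders.CyclicAbelian
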