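import Cfsg.Agent.Lib.Orders.CyclicAbelianComplement.Free
import Cfsg.Agent.Lib.Orders.CyclicAbelianComplement.Count
import Cfsg.Agent.Lib.Char.Exceptional.Quaternion

/-!
# Cyclic Sylow `p`-subgroup and abelian `p'`-subgroups: the dichotomy
-/

set_option autoImplicit false
set_option linter.all false

namespace CfsgLib.Orders.CyclicAbelian

open Cfsg Subgroup

universe u

theorem false_of_simple {G : Type u} [Group G] [Finite G] {p : ℕ} [Fact p.Prime]
    (C : Simple p G) : False := by
  by_cases hfree : ∀ (P : Sylow p G) (g : G), (orderOf g).Coprime p →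
      (∀ a ∈ (P : Subgroup G), Commute g a) → g = 1
  · exact C.false_of_free hfree
  · push Not at hfree
    obtain ⟨P, g, hg, hgP, hg1⟩ := hfree
    exact C.false_of_klein (C.forall_kleinData hg hg1 hgP)

/-- A group with cyclic Sylow `p`-subgroups and abelian `p'`-subgroups is solvable. -/
theorem isSolvable : ∀ {G : Type u} [Group G] [Finite G] {p : ℕ} [Fact p.Prime],
    Hyp p G → Group.IsSolvable G := by
  intro G _ _ p hp hG
  induction hn : Nat.card G using Nat.strong_induction_on generalizing G with
  | _ n ih =>
    subst hn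
    have hsub : ∀ X : Subgroup G, X ≠ ⊤ → Group.IsSolvable X := fun X hX =>
      ih _ (lt_of_le_of_ne (Nat.le_of_dvd Nat.card_pos X.card_subgroup_dvd_card)
        fun e => hX (X.eq_top_of_card_eq e)) (hG.subgroup X) rfl
    by_cases hcomm : ∀ a b : G, Commute a b
    · exact Group.isSolvable_of_comm fun a b => (hcomm a b).eq
    push Not at hcomm
    have hdvd : p ∣ Nat.card G := by
      by_contra h
      obtain ⟨a, b, hab⟩ := hcomm
      exact hab (hG.comm (H := ⊤) (by rwa [Subgroup.card_top]) (mem_top a) (mem_top b))
    haveI : Nontrivial G := by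
      obtain ⟨a, b, hab⟩ := hcomm
      exact ⟨a, b, fun e => hab (e ▸ Commute.refl a)⟩
    by_cases hsimple : IsSimpleGroup G
    · exfalso
      refine false_of_simple (p := p) ⟨hG, hsimple, hcomm, ?_, hdvd, fun X hX => ?_⟩
      · rintro rfl
        obtain ⟨P⟩ : Nonempty (Sylow 2 G) := inferInstance
        obtain ⟨K, hKodd, hK, hKmem⟩ :=
          CfsgLib.Char.Exceptional.exists_odd_complement_of_cyclic P (hG.cyclic P)
        haveI : K.Normal := ⟨fun x hx g => (hKmem _).2 (by
          rw [CfsgLib.Signalizer.orderOf_conj]; exact (hKmem x).1 hx)⟩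
        rcases hsimple.eq_bot_or_eq_top_of_normal K inferInstance with e | e
        · rw [e, bot_sup_eq] at hK
          obtain ⟨a, b, hab⟩ := hcomm
          exact hab (hG.commP P (hK ▸ mem_top a) (hK ▸ mem_top b))
        · rw [e, Subgroup.card_top] at hKodd
          exact Nat.not_even_iff_odd.2 hKodd (even_iff_two_dvd.2 hdvd)
      · haveI := hsub X hX
        exact dichotomy_of_solvable (hG.subgroup X)
    obtain ⟨N, hNn, hNb, hNt⟩ : ∃ N : Subgroup G, N.Normal ∧ N ≠ ⊥ ∧ N ≠ ⊤ := by
      by_contra h
      push Not at h
      exact hsimple ⟨fun N hN => (em (N = ⊥)).imp_right (h N hN)⟩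
    haveI := hsub N hNt
    obtain ⟨P⟩ : Nonempty (Sylow p G) := inferInstance
    suffices Group.IsSolvable (G ⧸ N) by
      exact Group.isSolvable_of_ker_le_range N.subtype (QuotientGroup.mk' N)
        (by rw [QuotientGroup.ker_mk', Subgroup.range_subtype])
    by_cases hq : p ∣ Nat.card (G ⧸ N)
    · refine ih _ ?_ ⟨fun S => ?_, fun H hH => ?_⟩ rfl
      · rw [Subgroup.card_eq_card_quotient_mul_card_subgroup N]
        exact lt_mul_of_one_lt_right Nat.card_pos
          (by rw [Finite.one_lt_card_iff_nontrivial]; exact (nontrivial_iff_ne_bot N).2 hNb)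
      · obtain ⟨T, hT⟩ := Sylow.mapSurjective_surjective (QuotientGroup.mk'_surjective N) p S
        haveI := hG.cyclic T
        subst hT
        exact isCyclic_of_surjective ((QuotientGroup.mk' N).subgroupMap (T : Subgroup G))
          ((QuotientGroup.mk' N).subgroupMap_surjective (T : Subgroup G))
      · -- the preimage is proper, so it has a Hall `p'`-subgroup
        set X := H.comap (QuotientGroup.mk' N) with hX
        have hXt : X ≠ ⊤ := by
          intro e
          have hHt : H = ⊤ := by
            rw [eq_top_iff]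
            intro q _
            obtain ⟨g, rfl⟩ := QuotientGroup.mk'_surjective N q
            exact (e ▸ mem_top g : g ∈ X)
          rw [hHt, Subgroup.card_top] at hH
          exact hH hq
        haveI := hsub X hXt
        obtain ⟨L, hL⟩ := CfsgLib.Core.exists_piHall (G := X) {r | r ≠ p}
        have hLc : ¬ p ∣ Nat.card L := fun h => hL.1 p hp.out h rfl
        have hLi : ∀ r : ℕ, r.Prime → r ∣ L.index → r = p := by
          intro r hr h
          by_contra hne
          exact hL.2 r hr hne h
        let f : X →* H := ((QuotientGroup.mk' N).comp X.subtype).codRestrict H fun x => x.2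
        have hf : Function.Surjective f := by
          rintro ⟨q, hq'⟩
          obtain ⟨g, rfl⟩ := QuotientGroup.mk'_surjective N q
          exact ⟨⟨g, hq'⟩, rfl⟩
        have htop : L.map f = ⊤ := by
          rw [← index_eq_one]
          by_contra hne
          obtain ⟨r, hr, hrd⟩ := Nat.exists_prime_and_dvd hne
          have h1 := hLi r hr (hrd.trans (Subgroup.index_map_dvd _ hf))
          subst h1
          exact hH (hrd.trans (Subgroup.index_dvd_card _))
        refine ⟨⟨fun a b => ?_⟩⟩
        obtain ⟨a', ha', rfl⟩ := htop.symm ▸ mem_top a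
        obtain ⟨b', hb', rfl⟩ := htop.symm ▸ mem_top b
        have hc : a' * b' = b' * a' := Subtype.ext (hG.comm
          (H := L.map X.subtype) (by rwa [Subgroup.card_map_of_injective X.subtype_injective])
          (mem_map_of_mem X.subtype ha') (mem_map_of_mem X.subtype hb'))
        rw [← map_mul, hc, map_mul]
    · -- the quotient is a `p'`-group
      have hPN : (P : Subgroup G) ≤ N := by
        intro a ha
        rw [← QuotientGroup.eq_one_iff]
        obtain ⟨k, hk⟩ := IsPGroup.iff_orderOf.1 P.2 ⟨a, ha⟩
        rw [Subgroup.orderOf_mk] at hk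
        rw [← orderOf_eq_one_iff]
        refine Nat.eq_one_of_dvd_coprimes
          ((hp.out.coprime_iff_not_dvd.2 hq).pow_left k)
          (hk ▸ orderOf_map_dvd (QuotientGroup.mk' N) a) (orderOf_dvd_natCard _)
      have hfr : normalizer ((P : Subgroup G) : Set G) ⊔ N = ⊤ :=
        Sylow.normalizer_sup_eq_top' P hPN
      by_cases hNP : normalizer ((P : Subgroup G) : Set G) = ⊤
      · haveI hPn : (P : Subgroup G).Normal := normalizer_eq_top_iff.1 hNP
        obtain ⟨H, hH⟩ := exists_isCompl P
        haveI : Group.IsSolvable (P : Subgroup G) :=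
          Group.isSolvable_of_comm fun a b => Subtype.ext (hG.commP P a.2 b.2).eq
        haveI : Group.IsSolvable H :=
          Group.isSolvable_of_comm fun a b => Subtype.ext (hG.comm hH.prime_to a.2 b.2)
        refine Group.isSolvable_of_surjective (f := (QuotientGroup.mk' N).comp H.subtype) ?_
        intro q
        obtain ⟨g, rfl⟩ := QuotientGroup.mk'_surjective N q
        obtain ⟨π, hπ, h, hh, rfl⟩ := hH.decomp g (hNP.symm ▸ mem_top g)
        refine ⟨⟨h, hh⟩, ?_⟩
        show QuotientGroup.mk' N h = QuotientGroup.mk' N (π * h)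
        rw [map_mul, show QuotientGroup.mk' N π = 1 from (QuotientGroup.eq_one_iff π).2 (hPN hπ), one_mul]
      · haveI := hsub _ hNP
        refine Group.isSolvable_of_surjective
          (f := (QuotientGroup.mk' N).comp (normalizer ((P : Subgroup G) : Set G)).subtype) ?_
        intro q
        obtain ⟨g, rfl⟩ := QuotientGroup.mk'_surjective N q
        obtain ⟨x, hx, y, hy, rfl⟩ := Subgroup.mem_sup_of_normal_right.1 (hfr.symm ▸ mem_top g)
        refine ⟨⟨x, hx⟩, ?_⟩
        show QuotientGroup.mk' N x = QuotientGroup.mk' N (x * y)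
        rw [map_mul, show QuotientGroup.mk' N y = 1 from (QuotientGroup.eq_one_iff y).2 hy, mul_one]

/-- The dichotomy. -/
theorem dichotomy {G : Type u} [Group G] [Finite G] {p : ℕ} [Fact p.Prime] (hG : Hyp p G) :
    Cfsg.HasNormalPComplement p G ∨ ∀ P : Sylow p G, (P : Subgroup G).Normal :=
  haveI := isSolvable hG
  dichotomy_of_solvable hG

end CfsgLib.Orders.CyclicAbelian
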