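import Cfsg.Agent.Lib.Orders.CyclicAbelianComplement.Basic

/-!
# A simple group with cyclic Sylow `p`-subgroup and abelian `p'`-subgroups

The normalizer of a Sylow `p`-subgroup is strongly isolated.
-/

set_option autoImplicit false
set_option linter.all false

namespace CfsgLib.Orders.CyclicAbelian

open Cfsg Subgroup

universe u

variable {G : Type u} [Group G] [Finite G] {p : ℕ} [hp : Fact p.Prime]

/-- A simple group with the hypothesis whose proper subgroups satisfy the dichotomy. -/
structure Simple (p : ℕ) (G : Type*) [Group G] : Prop where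
  hyp : Hyp p G
  simple : IsSimpleGroup G
  noncomm : ∃ a b : G, ¬ Commute a b
  odd : p ≠ 2
  dvd : p ∣ Nat.card G
  dichotomy : ∀ X : Subgroup G, X ≠ ⊤ →
    Cfsg.HasNormalPComplement p X ∨ ∀ S : Sylow p X, (S : Subgroup X).Normal

variable (C : Simple p G)
include C

theorem Simple.eq_bot_or_top (N : Subgroup G) (hN : N.Normal) : N = ⊥ ∨ N = ⊤ :=
  C.simple.eq_bot_or_eq_top_of_normal N hN

theorem Simple.false_of_comm (h : ∀ a b : G, a * b = b * a) : False := by
  obtain ⟨a, b, hab⟩ := C.noncomm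
  exact hab (h a b)

theorem Simple.centralizer_ne_top {g : G} (hg : g ≠ 1) :
    centralizer ({g} : Set G) ≠ ⊤ := by
  intro h
  have hc : g ∈ center G := mem_center_iff.2 fun a =>
    (mem_centralizer_singleton_iff.1 (h ▸ mem_top a) : a * g = g * a)
  rcases C.eq_bot_or_top (center G) inferInstance with e | e
  · rw [e, mem_bot] at hc; exact hg hc
  · exact C.false_of_comm fun a b => (mem_center_iff.1 (e ▸ mem_top b) a)

theorem Simple.normalizer_ne_top {A : Subgroup G} (h1 : A ≠ ⊥) (h2 : A ≠ ⊤) :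
    normalizer (A : Set G) ≠ ⊤ := fun h =>
  (C.eq_bot_or_top A (normalizer_eq_top_iff.1 h)).elim h1 h2

theorem Simple.ne_top_of_comm {A : Subgroup G} (h : ∀ a ∈ A, ∀ b ∈ A, a * b = b * a) : A ≠ ⊤ :=
  fun e => C.false_of_comm fun a b => h a (e ▸ mem_top a) b (e ▸ mem_top b)

/-- Burnside's transfer theorem in a simple group. -/
theorem Simple.burnside {q : ℕ} [Fact q.Prime] (Q : Sylow q G) (hq : q ∣ Nat.card G)
    (hQ : ∀ a ∈ (Q : Subgroup G), ∀ b ∈ (Q : Subgroup G), a * b = b * a) :
    ∃ g ∈ normalizer ((Q : Subgroup G) : Set G),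
      g ∉ centralizer ((Q : Subgroup G) : Set G) := by
  by_contra hcon
  push Not at hcon
  obtain ⟨S, N, hN, hc⟩ :=
    CfsgLib.TwoGroups.hasNormalPComplement_of_normalizer_le Q fun g hg => hcon g hg
  have hSb : (S : Subgroup G) ≠ ⊥ := Sylow.ne_bot_of_dvd_card S hq
  rcases C.eq_bot_or_top N hN with e | e
  · rw [e, isComplement'_bot_left] at hc
    obtain ⟨g, hg⟩ := MulAction.exists_smul_eq G Q S
    refine C.ne_top_of_comm hQ ?_
    refine Subgroup.eq_top_of_card_eq _ ?_
    rw [Nat.card_congr ((Q.equiv S).toEquiv), hc, Subgroup.card_top]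
  · rw [e, isComplement'_top_left] at hc
    exact hSb hc

theorem Simple.sylow_ne_bot (P : Sylow p G) : (P : Subgroup G) ≠ ⊥ :=
  Sylow.ne_bot_of_dvd_card P C.dvd

theorem Simple.exists_noncentral (P : Sylow p G) {H : Subgroup G} (hH : IsCompl P H) :
    ∃ h ∈ H, ∃ a ∈ (P : Subgroup G), ¬ Commute h a := by
  by_contra hcon
  push Not at hcon
  obtain ⟨g, hg, hgc⟩ := C.burnside P C.dvd fun a ha b hb => C.hyp.commP P ha hb
  obtain ⟨π, hπ, h, hh, rfl⟩ := hH.decomp g hg
  exact hgc (mem_centralizer_iff.2 fun a ha =>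
    ((C.hyp.commP P ha hπ).mul_right ((hcon h hh a ha).symm)).eq)

/-- The normalizer of a Sylow `p`-subgroup is a maximal subgroup. -/
theorem Simple.eq_normalizer (P : Sylow p G) {X : Subgroup G} (hX : X ≠ ⊤)
    (hle : normalizer ((P : Subgroup G) : Set G) ≤ X) :
    X = normalizer ((P : Subgroup G) : Set G) := by
  rcases C.dichotomy X hX with h | h
  · exfalso
    have hN : Cfsg.HasNormalPComplement p (normalizer ((P : Subgroup G) : Set G)) :=
      CfsgLib.Transfer.hasNormalPComplement_of_injective (Subgroup.inclusion hle)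
        (Subgroup.inclusion_injective hle) h
    obtain ⟨H, hH⟩ := exists_isCompl P
    obtain ⟨k, hk, a, ha, hne⟩ := C.exists_noncentral P hH
    set N := normalizer ((P : Subgroup G) : Set G)
    have h1 := CfsgLib.Transfer.mem_centralizer_of_hasNormalPComplement hN
      (Q := (P : Subgroup G).subgroupOf N)
      (P.2.comap_of_injective N.subtype N.subtype_injective) (g := ⟨k, hH.le hk⟩)
      (mem_normalizer_iff.2 fun x => by
        simpa [mem_subgroupOf] using mem_normalizer_iff.1 (hH.le hk) (x : G))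
      (by rw [Subgroup.orderOf_mk]; exact coprime_of_mem hH.prime_to hk)
    have h2 := mem_centralizer_iff.1 h1 ⟨a, le_normalizer ha⟩ (mem_subgroupOf.2 ha)
    exact hne (congrArg Subtype.val h2 : a * k = k * a).symm
  · refine le_antisymm (fun x hx => ?_) hle
    have hPX : (P : Subgroup G) ≤ X := le_normalizer.trans hle
    have hn : ((P : Subgroup G).subgroupOf X).Normal := h (P.subtype hPX)
    exact (normal_subgroupOf_iff_le_normalizer hPX).1 hn hx

theorem Simple.centralizer_le {P : Sylow p G} {x : G} (hx : x ∈ (P : Subgroup G)) (hx1 : x ≠ 1)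
    {g : G} (hg : Commute g x) : g ∈ normalizer ((P : Subgroup G) : Set G) := by
  haveI := C.hyp.cyclic P
  have hle : normalizer ((P : Subgroup G) : Set G) ≤ normalizer (zpowers x : Set G) := by
    intro n hn
    have hmap : (zpowers x).map (MulAut.conj n).toMonoidHom ≤ (P : Subgroup G) := by
      rw [MonoidHom.map_zpowers, zpowers_le]
      exact (mem_normalizer_iff.1 hn x).1 hx
    have e : (zpowers x).map (MulAut.conj n).toMonoidHom = zpowers x :=
      eq_of_card_eq hmap ((zpowers_le (H := (P : Subgroup G))).2 hx)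
        (Subgroup.card_map_of_injective (MulAut.conj n).injective)
    refine mem_normalizer_iff.2 fun y => ⟨fun hy => ?_, fun hy => ?_⟩
    · rw [← e]; exact ⟨y, hy, rfl⟩
    · rw [← e] at hy
      obtain ⟨z, hz, hze⟩ := hy
      rwa [← (MulAut.conj n).injective hze]
  have hne : normalizer (zpowers x : Set G) ≠ ⊤ :=
    C.normalizer_ne_top (fun e => hx1 (zpowers_eq_bot.1 e))
      (C.ne_top_of_comm fun a ha b hb => C.hyp.commP P ((zpowers_le.2 hx) ha) ((zpowers_le.2 hx) hb))
  rw [← C.eq_normalizer P hne hle]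
  exact Subgroup.centralizer_le_normalizer _ (mem_centralizer_iff.2 fun y hy => by
    obtain ⟨k, rfl⟩ := mem_zpowers_iff.1 hy
    exact (hg.zpow_right k).symm.eq)

/-- Sylow subgroups are trivial intersection subgroups. -/
theorem Simple.sylow_eq {P Q : Sylow p G} {x : G} (hP : x ∈ (P : Subgroup G))
    (hQ : x ∈ (Q : Subgroup G)) (hx : x ≠ 1) : Q = P := by
  refine Sylow.ext ?_
  have h : (Q : Subgroup G) ≤ (P : Subgroup G) := fun a ha =>
    mem_of_pElement (C.centralizer_le hP hx (C.hyp.commP Q ha hQ))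
      (Q.2.to_le ((zpowers_le (H := (Q : Subgroup G))).2 ha))
  exact (Q.3 P.2 h).symm

theorem Simple.mem_normalizer {P : Sylow p G} {x g : G} (hx : x ∈ (P : Subgroup G)) (hx1 : x ≠ 1)
    (hg : g * x * g⁻¹ ∈ (P : Subgroup G)) : g ∈ normalizer ((P : Subgroup G) : Set G) := by
  refine Sylow.smul_eq_iff_mem_normalizer.1 (C.sylow_eq hg ?_ fun e => hx1 (conj_eq_one_iff.1 e))
  rw [Sylow.coe_subgroup_smul]
  exact ⟨x, hx, rfl⟩

/-- An element of order prime to `p` centralizing `P` has centralizer `N(P)`. -/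
theorem Simple.centralizer_eq {P : Sylow p G} {g : G} (hc : (orderOf g).Coprime p)
    (hg : ∀ a ∈ (P : Subgroup G), Commute g a) (hg1 : g ≠ 1) :
    centralizer ({g} : Set G) = normalizer ((P : Subgroup G) : Set G) := by
  refine C.eq_normalizer P (C.centralizer_ne_top hg1) fun n hn => ?_
  obtain ⟨H, hH⟩ := exists_isCompl P
  have hgH := hH.mem_of_centralizes C.hyp hc hg
  obtain ⟨π, hπ, h, hh, rfl⟩ := hH.decomp n hn
  exact mem_centralizer_singleton_iff.2
    (((hg π hπ).symm : Commute π g).mul_left (C.hyp.comm hH.prime_to hh hgH)).eq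

/-- An element of order prime to `p` commuting with a nontrivial element of `P` centralizes `P`. -/
theorem Simple.centralizes {P : Sylow p G} {x g : G} (hx : x ∈ (P : Subgroup G)) (hx1 : x ≠ 1)
    (hc : (orderOf g).Coprime p) (hg : Commute g x) {a : G} (ha : a ∈ (P : Subgroup G)) :
    Commute g a := by
  haveI := C.hyp.cyclic P
  exact commute_of_fix P.2 (C.centralizer_le hx hx1 hg) hc hx hx1 hg ha

omit C in
theorem exists_sylow_mem {a : G} (ha : IsPGroup p (zpowers a)) :
    ∃ P : Sylow p G, a ∈ (P : Subgroup G) := by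
  obtain ⟨P, hP⟩ := ha.exists_le_sylow
  exact ⟨P, hP (mem_zpowers a)⟩

end CfsgLib.Orders.CyclicAbelian
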